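import Cfsg.Agent.Lib.Orth.SO
import Cfsg.Agent.Lib.Orth.NegOne
import Cfsg.Agent.Lib.QuadFin.Gram
import Cfsg.Agent.Lib.Maximal99.OrthUnipotent
import Cfsg.Agent.Lib.SpecOrth.Tools

/-!
Orthogonal sums of quadratic spaces in coordinates, the behaviour of the spinor characters on them,
and the splitting of an isometry along the fixed space of a power of order prime to the
characteristic.
-/

set_option autoImplicit false
set_option linter.unusedSectionVars false

namespace CfsgLib.Recog.OmegaNine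

open Matrix QuadraticMap CfsgLib.Orth

variable {F : Type*} [Field F] [Fintype F] [DecidableEq F]
variable {κ μ ι : Type} [Fintype κ] [DecidableEq κ] [Fintype μ] [DecidableEq μ] [Fintype ι]
  [DecidableEq ι]

/-- `Q` is the orthogonal sum of `Qκ` and `Qμ`. -/
structure Sum (Qκ : QuadraticForm F (κ → F)) (Qμ : QuadraticForm F (μ → F))
    (Q : QuadraticForm F (ι → F)) where
  /-- The coordinates. -/
  E : ((κ → F) × (μ → F)) ≃ₗ[F] (ι → F)
  map_Q : ∀ x y, Q (E (x, y)) = Qκ x + Qμ y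

variable {Qκ : QuadraticForm F (κ → F)} {Qμ : QuadraticForm F (μ → F)}
  {Q : QuadraticForm F (ι → F)}

namespace Sum

variable (S : Sum Qκ Qμ Q)

/-- The linear map of a pair of isometries. -/
def lin (p : O Qκ × O Qμ) : (ι → F) →ₗ[F] (ι → F) :=
  S.E.toLinearMap ∘ₗ ((app p.1).prodMap (app p.2)) ∘ₗ S.E.symm.toLinearMap

theorem lin_apply (p : O Qκ × O Qμ) (x : κ → F) (y : μ → F) :
    S.lin p (S.E (x, y)) = S.E (app p.1 x, app p.2 y) := by
  simp [lin]

/-- A pair of isometries. -/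
noncomputable def J : O Qκ × O Qμ →* O Q where
  toFun p := mkO (S.lin p) (S.lin p⁻¹)
    (LinearMap.ext fun v => by
      obtain ⟨⟨x, y⟩, rfl⟩ := S.E.surjective v
      simp [S.lin_apply, app_app_inv])
    (LinearMap.ext fun v => by
      obtain ⟨⟨x, y⟩, rfl⟩ := S.E.surjective v
      simp [S.lin_apply, app_inv_app])
    (fun v => by
      obtain ⟨⟨x, y⟩, rfl⟩ := S.E.surjective v
      simp [S.lin_apply, S.map_Q])
  map_one' := ext_app fun v => by
    obtain ⟨⟨x, y⟩, rfl⟩ := S.E.surjective v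
    simp [app_mkO, S.lin_apply]
  map_mul' p p' := ext_app fun v => by
    obtain ⟨⟨x, y⟩, rfl⟩ := S.E.surjective v
    simp [app_mkO, S.lin_apply]

theorem app_J (p : O Qκ × O Qμ) (x : κ → F) (y : μ → F) :
    app (S.J p) (S.E (x, y)) = S.E (app p.1 x, app p.2 y) := by
  simp [J, app_mkO, S.lin_apply]

theorem J_injective : Function.Injective S.J := fun p p' h => by
  refine Prod.ext (ext_app fun x => ?_) (ext_app fun y => ?_)
  · have e := congrArg (fun g => app g (S.E (x, 0))) h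
    simp only [S.app_J, S.E.injective.eq_iff, Prod.mk.injEq] at e
    exact e.1
  · have e := congrArg (fun g => app g (S.E (0, y))) h
    simp only [S.app_J, S.E.injective.eq_iff, Prod.mk.injEq] at e
    exact e.2

theorem orderOf_J (a : O Qκ) (b : O Qμ) :
    orderOf (S.J (a, b)) = Nat.lcm (orderOf a) (orderOf b) := by
  rw [orderOf_injective _ S.J_injective, Prod.orderOf_mk]

theorem polar_E (x x' : κ → F) (y y' : μ → F) :
    polar Q (S.E (x, y)) (S.E (x', y')) = polar Qκ x x' + polar Qμ y y' := by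
  simp only [QuadraticMap.polar, ← map_add, Prod.mk_add_mk, S.map_Q]
  ring

include S in
theorem nondeg_left (hQ : Q.polarBilin.Nondegenerate) : Qκ.polarBilin.Nondegenerate := by
  have key : ∀ x, (∀ x', polar Qκ x x' = 0) → x = 0 := fun x hx => by
    have h0 : S.E (x, 0) = 0 := hQ.1 _ fun v => by
      obtain ⟨⟨x', y'⟩, rfl⟩ := S.E.surjective v
      rw [polarBilin_apply_apply, S.polar_E, hx, polar_zero_left, add_zero]
    exact congrArg Prod.fst (S.E.map_eq_zero_iff.1 h0)
  exact ⟨key, fun y hy => key y fun x => by rw [polar_comm]; exact hy x⟩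

/-- The summands exchanged. -/
def swap : Sum Qμ Qκ Q where
  E := (LinearEquiv.prodComm F (μ → F) (κ → F)).trans S.E
  map_Q x y := by simp [S.map_Q, add_comm]

theorem J_swap (a : O Qκ) (b : O Qμ) : S.swap.J (b, a) = S.J (a, b) := ext_app fun v => by
  obtain ⟨⟨y, x⟩, rfl⟩ := S.swap.E.surjective v
  rw [S.swap.app_J]
  simp [swap, S.app_J]

theorem refl_left {v : κ → F} (hv : Qκ v ≠ 0) :
    S.J (refl Qκ v, 1) = refl Q (S.E (v, 0)) := ext_app fun w => by
  obtain ⟨⟨x, y⟩, rfl⟩ := S.E.surjective w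
  rw [S.app_J, app_refl, app_refl, S.polar_E, S.map_Q, ← map_smul, ← map_sub]
  simp

include S in
theorem chiPair_left (h2 : (2 : F) ≠ 0) {d : F} (hd : ¬ IsSquare d)
    (hQ : Q.polarBilin.Nondegenerate) (a : O Qκ) :
    chiPair Q d (S.J (a, 1)) = chiPair Qκ d a := by
  induction a using odd_induction (S.nondeg_left hQ) h2 with
  | h1 => rw [show ((1 : O Qκ), (1 : O Qμ)) = 1 from rfl, map_one, map_one, map_one]
  | hmul v g hv ih =>
    have e : ((refl Qκ v * g, 1) : O Qκ × O Qμ) = (refl Qκ v, 1) * (g, 1) := by simp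
    rw [e, map_mul, map_mul, map_mul, ih, S.refl_left hv, chiPair_refl h2 hd hv,
      chiPair_refl h2 hd (v := S.E (v, 0)) (by rwa [S.map_Q, map_zero, add_zero]), S.map_Q,
      map_zero, add_zero]

theorem chiPair_J (h2 : (2 : F) ≠ 0) {d : F} (hd : ¬ IsSquare d)
    (hQ : Q.polarBilin.Nondegenerate) (a : O Qκ) (b : O Qμ) :
    chiPair Q d (S.J (a, b)) = chiPair Qκ d a * chiPair Qμ d b := by
  rw [show ((a, b) : O Qκ × O Qμ) = (a, 1) * (1, b) by simp, map_mul, map_mul,
    S.chiPair_left h2 hd hQ, ← S.J_swap 1 b, S.swap.chiPair_left h2 hd hQ]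

end Sum

/-- An element of odd order has trivial spinor characters. -/
theorem chiPair_eq_one_of_pow {d : F} (g : O Q) {N : ℕ} (hN : Odd N) (h : g ^ N = 1) :
    chiPair Q d g = 1 := by
  have e := congrArg (chiPair Q d) h
  rw [map_pow, map_one] at e
  obtain ⟨k, rfl⟩ := hN
  rw [pow_succ, pow_mul, show chiPair Q d g ^ 2 = 1 from
    (by decide : ∀ u : ℤˣ × ℤˣ, u ^ 2 = 1) _, one_pow, one_mul] at e
  exact e

theorem detHom_eq_one (hQ : Q.polarBilin.Nondegenerate) (h2 : (2 : F) ≠ 0) {d : F}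
    (hd : ¬ IsSquare d) {g : O Q} (h : chiPair Q d g = 1) : detHom Q g = 1 := by
  rw [chiPair, MonoidHom.prod_apply, Prod.mk_eq_one] at h
  rw [detHom_eq hQ h2 hd, h.1, h.2, one_mul, map_one]

/-- The matrix of an isometry. -/
abbrev mat (g : O Q) : Matrix ι ι F := ((g : GL ι F) : Matrix ι ι F)

theorem mat_pow (g : O Q) (n : ℕ) : mat (g ^ n) = mat g ^ n := by
  simp [mat]

theorem mat_preserves (g : O Q) :
    (mat g)ᵀ * CfsgLib.QuadFin.gram ⇑Q * mat g = CfsgLib.QuadFin.gram ⇑Q := by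
  have hG : CfsgLib.QuadFin.gram ⇑Q = LinearMap.BilinForm.toMatrix' Q.polarBilin := by
    rw [CfsgLib.QuadFin.gram_eq_toMatrix]; rfl
  rw [hG]
  apply (Matrix.toBilin' (n := ι) (R₁ := F)).injective
  refine LinearMap.ext fun u => LinearMap.ext fun v => ?_
  rw [Matrix.toBilin'_apply', ← mulVec_mulVec, ← mulVec_mulVec, dotProduct_mulVec u,
    vecMul_transpose, ← Matrix.toBilin'_apply', Matrix.toBilin'_toMatrix']
  exact polar_app g u v

/-- An isometry without fixed points has determinant `(-1) ^ dim`. -/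
theorem det_of_fixed_free (hQ : Q.polarBilin.Nondegenerate) (g : O Q)
    (h : ∀ x, app g x = x → x = 0) : (detHom Q g : F) = (-1) ^ Fintype.card ι := by
  set A := mat g
  set G := CfsgLib.QuadFin.gram ⇑Q
  have hG : G.det ≠ 0 := CfsgLib.QuadFin.gram_det_ne_zero Q hQ
  have hpres : Aᵀ * G * A = G := mat_preserves g
  have h1 : (1 - A).det ≠ 0 := by
    intro e
    obtain ⟨v, hv, hv0⟩ := Matrix.exists_mulVec_eq_zero_iff.2 e
    rw [Matrix.sub_mulVec, Matrix.one_mulVec, sub_eq_zero] at hv0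
    exact hv (h v hv0.symm)
  have e1 : (A - 1)ᵀ * G * A = G * (1 - A) := by
    rw [Matrix.transpose_sub, Matrix.transpose_one, Matrix.sub_mul, Matrix.sub_mul, hpres,
      Matrix.one_mul, Matrix.mul_sub, Matrix.mul_one]
  have e2 := congrArg Matrix.det e1
  rw [Matrix.det_mul, Matrix.det_mul, Matrix.det_mul, Matrix.det_transpose,
    show A - 1 = -(1 - A) by rw [neg_sub], Matrix.det_neg] at e2
  have e3 : (-1 : F) ^ Fintype.card ι * A.det = 1 := by
    refine mul_left_cancel₀ (mul_ne_zero hG h1) ?_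
    linear_combination e2
  have hsq : ((-1 : F) ^ Fintype.card ι) * (-1) ^ Fintype.card ι = 1 := by
    rw [← mul_pow]; simp
  have hdet : (detHom Q g : F) = A.det := rfl
  rw [hdet]
  linear_combination ((-1 : F) ^ Fintype.card ι) * e3 - A.det * hsq

/-- Coordinates along the fixed space of a power. -/
theorem exists_split (hQ : Q.polarBilin.Nondegenerate) (g : O Q) {N M : ℕ}
    (hM : (M : F) ≠ 0) (hgM : (g ^ N) ^ M = 1) :
    ∃ (d k : ℕ) (Qa : QuadraticForm F (Fin d → F)) (Qb : QuadraticForm F (Fin k → F))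
      (S : Sum Qa Qb Q) (a : O Qa) (b : O Qb), S.J (a, b) = g ∧
        (∀ x, app (a ^ N) x = x → x = 0) ∧ b ^ N = 1 := by
  set h := g ^ N with hh
  have hgh : ∀ v, app g (app h v) = app h (app g v) := fun v => by
    rw [← app_mul, ← app_mul, hh, ← pow_succ', ← pow_succ]
  have hint : ∀ x, x ∈ fixS h → x ∈ movS h → x = 0 := by
    intro x hx hx'
    obtain ⟨y, hy⟩ := mem_movS.1 hx'
    rw [mem_fixS] at hx
    have key : ∀ j : ℕ, app (h ^ j) y = y - (j : F) • x := by
      intro j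
      induction j with
      | zero => simp
      | succ j ih =>
        rw [pow_succ', app_mul, ih, map_sub, map_smul, hx, ← hy]
        push_cast
        module
    have e := key M
    rw [hgM, app_one, eq_comm, sub_eq_self] at e
    exact (smul_eq_zero.1 e).resolve_left hM
  have hcompl : IsCompl (movS h) (fixS h) := by
    refine ⟨Submodule.disjoint_def.2 fun x h1 h2 => hint x h2 h1,
      codisjoint_iff.2 (Submodule.eq_top_of_disjoint _ _ ?_
        (Submodule.disjoint_def.2 fun x h1 h2 => hint x h2 h1))⟩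
    exact le_of_eq (LinearMap.finrank_range_add_finrank_ker _).symm
  let eK := (Module.finBasis F (movS h)).equivFun.symm
  let eF := (Module.finBasis F (fixS h)).equivFun.symm
  let E : ((Fin (Module.finrank F (movS h)) → F) × (Fin (Module.finrank F (fixS h)) → F)) ≃ₗ[F]
      (ι → F) := (eK.prodCongr eF).trans (Submodule.prodEquivOfIsCompl _ _ hcompl)
  have hE : ∀ x y, E (x, y) = (eK x : ι → F) + (eF y : ι → F) := fun x y => by
    simp [E, Submodule.coe_prodEquivOfIsCompl']
  let Qa : QuadraticForm F (Fin (Module.finrank F (movS h)) → F) :=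
    Q.comp ((movS h).subtype ∘ₗ eK.toLinearMap)
  let Qb : QuadraticForm F (Fin (Module.finrank F (fixS h)) → F) :=
    Q.comp ((fixS h).subtype ∘ₗ eF.toLinearMap)
  let S : Sum Qa Qb Q :=
    { E := E
      map_Q := fun x y => by
        rw [hE, QuadraticMap.map_add ⇑Q, polar_comm, polar_fix_mov (eF y).2 (eK x).2, add_zero]
        rfl }
  have hKinv : ∀ (u : O Q), (∀ v, app u (app h v) = app h (app u v)) →
      ∀ x ∈ movS h, app u x ∈ movS h := by
    intro u hu x hx
    obtain ⟨y, rfl⟩ := mem_movS.1 hx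
    exact mem_movS.2 ⟨app u y, by rw [map_sub, hu]⟩
  have hFinv : ∀ (u : O Q), (∀ v, app u (app h v) = app h (app u v)) →
      ∀ x ∈ fixS h, app u x ∈ fixS h := by
    intro u hu x hx
    rw [mem_fixS] at hx ⊢
    rw [← hu, hx]
  have hgi : ∀ v, app g⁻¹ (app h v) = app h (app g⁻¹ v) := fun v => by
    apply app_injective g
    rw [app_app_inv, hgh, app_app_inv]
  let a : O Qa := mkO (eK.symm.toLinearMap ∘ₗ (app g).restrict (hKinv g hgh) ∘ₗ eK.toLinearMap)
    (eK.symm.toLinearMap ∘ₗ (app g⁻¹).restrict (hKinv g⁻¹ hgi) ∘ₗ eK.toLinearMap)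
    (LinearMap.ext fun x => eK.injective (Subtype.ext (by simp [app_app_inv])))
    (LinearMap.ext fun x => eK.injective (Subtype.ext (by simp [app_inv_app])))
    (fun x => by simp [Qa])
  let b : O Qb := mkO (eF.symm.toLinearMap ∘ₗ (app g).restrict (hFinv g hgh) ∘ₗ eF.toLinearMap)
    (eF.symm.toLinearMap ∘ₗ (app g⁻¹).restrict (hFinv g⁻¹ hgi) ∘ₗ eF.toLinearMap)
    (LinearMap.ext fun x => eF.injective (Subtype.ext (by simp [app_app_inv])))
    (LinearMap.ext fun x => eF.injective (Subtype.ext (by simp [app_inv_app])))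
    (fun x => by simp [Qb])
  have hg : S.J (a, b) = g := ext_app fun v => by
    obtain ⟨⟨x, y⟩, rfl⟩ := S.E.surjective v
    rw [S.app_J]
    show E _ = app g (E _)
    simp only [a, b]
    rw [hE, hE, map_add]
    erw [app_mkO, app_mkO]
    simp
  have hpow : S.J (a ^ N, b ^ N) = h := by rw [← Prod.pow_mk, map_pow, hg]
  have hpow' : ∀ v, app h v = app (S.J (a ^ N, b ^ N)) v := fun v => by rw [hpow]
  refine ⟨_, _, Qa, Qb, S, a, b, hg, fun x hx => ?_, ext_app fun y => ?_⟩
  · have hfix : S.E (x, 0) ∈ fixS h := by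
      rw [mem_fixS, hpow', S.app_J, hx, map_zero]
    have hmov : S.E (x, 0) ∈ movS h := by
      show E _ ∈ _
      simp [hE]
    have := S.E.map_eq_zero_iff.1 (hint _ hfix hmov)
    exact congrArg Prod.fst this
  · have hfix : S.E (0, y) ∈ fixS h := by
      show E _ ∈ _
      simp [hE]
    rw [mem_fixS, hpow', S.app_J, S.E.injective.eq_iff, Prod.mk.injEq] at hfix
    rw [app_one]
    exact hfix.2

section Disc

variable {ι' : Type} [Fintype ι'] [DecidableEq ι']

theorem gram_comp_equiv (R : QuadraticForm F (ι → F)) (e : ι' ≃ ι) :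
    (CfsgLib.QuadFin.gram ⇑(R.comp (LinearEquiv.funCongrLeft F F e.symm).toLinearMap)).det =
      (CfsgLib.QuadFin.gram ⇑R).det := by
  have hp : ∀ i, LinearEquiv.funCongrLeft F F e.symm (Pi.single i 1 : ι' → F) =
      Pi.single (e i) 1 := by
    intro i
    funext j
    simp [Pi.single_apply, Equiv.symm_apply_eq]
  rw [← Matrix.det_submatrix_equiv_self e (CfsgLib.QuadFin.gram ⇑R)]
  congr 1
  ext i j
  simp [CfsgLib.QuadFin.gram, QuadraticMap.polar, ← hp, map_add]

theorem nondeg_of_det {R : QuadraticForm F (ι → F)}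
    (h : (CfsgLib.QuadFin.gram ⇑R).det ≠ 0) : R.polarBilin.Nondegenerate :=
  (LinearMap.BilinForm.nondegenerate_iff_det_ne_zero (Pi.basisFun F ι)).2
    (by rwa [← CfsgLib.QuadFin.gram_eq_toMatrix])

/-- The sum of two forms. -/
def qSum (R : QuadraticForm F (κ → F)) (R' : QuadraticForm F (μ → F)) :
    QuadraticForm F (κ ⊕ μ → F) :=
  R.comp (LinearMap.funLeft F F Sum.inl) + R'.comp (LinearMap.funLeft F F Sum.inr)

theorem qSum_apply (R : QuadraticForm F (κ → F)) (R' : QuadraticForm F (μ → F)) (v : κ ⊕ μ → F) :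
    qSum R R' v = R (v ∘ Sum.inl) + R' (v ∘ Sum.inr) := rfl

theorem gram_qSum (R : QuadraticForm F (κ → F)) (R' : QuadraticForm F (μ → F)) :
    (CfsgLib.QuadFin.gram ⇑(qSum R R')).det =
      (CfsgLib.QuadFin.gram ⇑R).det * (CfsgLib.QuadFin.gram ⇑R').det := by
  rw [← Matrix.det_fromBlocks_zero₂₁ _ 0]
  congr 1
  have hl : ∀ i, (Pi.single (Sum.inl i) (1 : F) : κ ⊕ μ → F) ∘ Sum.inl = Pi.single i 1 ∧
      (Pi.single (Sum.inl i) (1 : F) : κ ⊕ μ → F) ∘ Sum.inr = 0 := fun i =>
    ⟨funext fun j => by simp [Pi.single_apply], funext fun j => by simp⟩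
  have hr : ∀ i, (Pi.single (Sum.inr i) (1 : F) : κ ⊕ μ → F) ∘ Sum.inr = Pi.single i 1 ∧
      (Pi.single (Sum.inr i) (1 : F) : κ ⊕ μ → F) ∘ Sum.inl = 0 := fun i =>
    ⟨funext fun j => by simp [Pi.single_apply], funext fun j => by simp⟩
  ext i j
  rcases i with i | i <;> rcases j with j | j <;>
    simp [CfsgLib.QuadFin.gram, QuadraticMap.polar, qSum_apply, Pi.add_comp, hl, hr]

theorem nondeg_qSum {R : QuadraticForm F (κ → F)} {R' : QuadraticForm F (μ → F)}
    (hR : R.polarBilin.Nondegenerate) (hR' : R'.polarBilin.Nondegenerate) :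
    (qSum R R').polarBilin.Nondegenerate := by
  refine nondeg_of_det ?_
  rw [gram_qSum]
  exact mul_ne_zero (CfsgLib.QuadFin.gram_det_ne_zero R hR)
    (CfsgLib.QuadFin.gram_det_ne_zero R' hR')

/-- Sums exist when the discriminants agree. -/
theorem exists_sum (h2 : (2 : F) ≠ 0) (Qκ : QuadraticForm F (κ → F))
    (Qμ : QuadraticForm F (μ → F)) (Q : QuadraticForm F (ι → F))
    (hκ : Qκ.polarBilin.Nondegenerate) (hμ : Qμ.polarBilin.Nondegenerate)
    (hQ : Q.polarBilin.Nondegenerate) (hcard : Fintype.card κ + Fintype.card μ = Fintype.card ι)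
    (hsq : IsSquare ((CfsgLib.QuadFin.gram ⇑Qκ).det * (CfsgLib.QuadFin.gram ⇑Qμ).det *
      (CfsgLib.QuadFin.gram ⇑Q).det)) : Nonempty (Sum Qκ Qμ Q) := by
  let e : ι ≃ κ ⊕ μ := Fintype.equivOfCardEq (by simp [hcard])
  let p : (ι → F) ≃ₗ[F] (κ ⊕ μ → F) := LinearEquiv.funCongrLeft F F e.symm
  let R := (qSum Qκ Qμ).comp p.toLinearMap
  have hdet : (CfsgLib.QuadFin.gram ⇑R).det =
      (CfsgLib.QuadFin.gram ⇑Qκ).det * (CfsgLib.QuadFin.gram ⇑Qμ).det := by
    rw [gram_comp_equiv, gram_qSum]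
  have hR : R.polarBilin.Nondegenerate := by
    refine nondeg_of_det ?_
    rw [hdet]
    exact mul_ne_zero (CfsgLib.QuadFin.gram_det_ne_zero Qκ hκ)
      (CfsgLib.QuadFin.gram_det_ne_zero Qμ hμ)
  obtain ⟨φ, hφ⟩ := CfsgLib.OrthUnipotent.exists_isometry h2 R Q hR hQ (by rwa [hdet])
  refine ⟨⟨((LinearEquiv.sumArrowLequivProdArrow κ μ F F).symm.trans p.symm).trans φ,
    fun x y => ?_⟩⟩
  rw [LinearEquiv.trans_apply, hφ, LinearEquiv.trans_apply]
  show qSum Qκ Qμ (p (p.symm _)) = _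
  rw [LinearEquiv.apply_symm_apply, qSum_apply]
  congr 1

theorem exists_form (h2 : (2 : F) ≠ 0) {m : ℕ} (hm : 1 ≤ m) {c : F} (hc : c ≠ 0) :
    ∃ R : QuadraticForm F (Fin m → F), R.polarBilin.Nondegenerate ∧
      (CfsgLib.QuadFin.gram ⇑R).det = c := by
  set w : Fin m → F := fun i => (if i = ⟨0, hm⟩ then c else 1) / 2 with hw
  have hgram : (CfsgLib.QuadFin.gram ⇑(QuadraticMap.weightedSumSquares F w)).det = c := by
    rw [show (⇑(QuadraticMap.weightedSumSquares F w) : (Fin m → F) → F) =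
      fun v => ∑ i, w i * v i ^ 2 from funext fun v => by
        simp [QuadraticMap.weightedSumSquares_apply, pow_two],
      CfsgLib.QuadFin.gram_diag, Matrix.det_diagonal, Finset.prod_eq_single ⟨0, hm⟩]
    · simp [hw]; field_simp
    · intro i _ hi
      simp [hw, hi]; field_simp
    · simp
  refine ⟨_, nondeg_of_det ?_, hgram⟩
  rw [hgram]
  exact hc

end Disc

/-- The sign on the shell of an element acting freely. -/
theorem chi_of_free (g : O Q) {o t : ℕ} (ho : Even o) (ho0 : o ≠ 0)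
    (hfree : ∀ x, x ≠ 0 → ∀ j : ℕ, app (g ^ j) x = x ↔ o ∣ j)
    (hcard : Nat.card (Shell Q 1) = o * t) : chi Q 1 g = (-1) ^ t := by
  classical
  have hne : ∀ x : Shell Q 1, (x : ι → F) ≠ 0 := fun x h => by
    have := x.2
    rw [h, map_zero] at this
    exact zero_ne_one this
  have hpow : ∀ (x : Shell Q 1) (j : ℕ), (shellPerm Q 1 g ^ j) x = x ↔ o ∣ j := fun x j => by
    rw [← map_pow, ← hfree _ (hne x) j, Subtype.ext_iff]
    rfl
  have ho1 : o ≠ 1 := fun h => by rw [h] at ho; exact absurd ho (by decide)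
  have hfix : ∀ x, shellPerm Q 1 g x ≠ x := fun x hx =>
    ho1 (Nat.dvd_one.1 ((hpow x 1).1 (by rwa [pow_one])))
  obtain ⟨k, hk, hs⟩ := CfsgLib.SpecOrth.sign_of_uniform (fun x _ => hpow x)
  have hsupp : (shellPerm Q 1 g).support.card = Fintype.card (Shell Q 1) := by
    rw [← Finset.card_univ]
    congr 1
    ext x
    simp [hfix x]
  have hkt : k = t := by
    rw [← Nat.card_eq_fintype_card] at hsupp
    rw [hsupp, hcard] at hk
    exact Nat.eq_of_mul_eq_mul_left (Nat.pos_of_ne_zero ho0) hk.symm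
  rw [hkt] at hs
  show Equiv.Perm.sign (shellPerm Q 1 g) = _
  rw [hs, pow_add, Even.neg_one_pow (ho.mul_right t), one_mul]

end CfsgLib.Recog.OmegaNine
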