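import Mathlib

/-!
Eigenvalue patterns of isometries in dimension at most eight without the eigenvalues `± 1`.
-/

set_option autoImplicit false
set_option linter.unusedSectionVars false

namespace CfsgLib.Recog.OmegaNine

open scoped Classical

/-- A multiset of eigenvalues other than `± 1`, closed under `x ↦ x ^ q` and `x ↦ x⁻¹`. -/
structure Symm (K : Type*) [Field K] (q : ℕ) (R : Multiset K) : Prop where
  hq : 2 ≤ q
  hodd : Odd q
  inj : Function.Injective fun x : K => x ^ q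
  card : R.card ≤ 8
  ne_zero : ∀ x ∈ R, x ≠ 0
  ne_one : ∀ x ∈ R, x ≠ 1
  ne_neg_one : ∀ x ∈ R, x ≠ -1
  frob : R.map (fun x => x ^ q) = R
  inv : R.map (fun x => x⁻¹) = R

variable {K : Type*} [Field K] {q : ℕ} {R : Multiset K}

namespace Symm

set_option linter.unusedSectionVars false

variable (h : Symm K q R)
include h

theorem count_pow (x : K) : R.count (x ^ q) = R.count x := by
  have e := Multiset.count_map_eq_count' (fun y : K => y ^ q) R h.inj x
  rwa [h.frob] at e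

theorem count_inv (x : K) : R.count x⁻¹ = R.count x := by
  have e := Multiset.count_map_eq_count' (fun y : K => y⁻¹) R inv_injective x
  rwa [h.inv] at e

theorem count_iter (x : K) (i : ℕ) : R.count (x ^ q ^ i) = R.count x := by
  induction i with
  | zero => rw [pow_zero, pow_one]
  | succ i ih => rw [pow_succ, pow_mul, h.count_pow, ih]

theorem mem_pow {x : K} (hx : x ∈ R) : x ^ q ∈ R := by
  rw [← Multiset.count_pos, h.count_pow]
  exact Multiset.count_pos.2 hx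

theorem iter_inj (i : ℕ) : Function.Injective fun x : K => x ^ q ^ i := by
  induction i with
  | zero => intro x y e; simpa using e
  | succ i ih =>
    intro x y e
    simp only [pow_succ, pow_mul] at e
    exact ih (h.inj e)

theorem exists_period {x : K} (hx : x ∈ R) :
    ∃ k, 0 < k ∧ (x ^ q ^ k = x ∨ x ^ q ^ k = x⁻¹) := by
  have hm : ∀ i : ℕ, x ^ q ^ i ∈ R := fun i => by
    rw [← Multiset.count_pos, h.count_iter]
    exact Multiset.count_pos.2 hx
  obtain ⟨i, j, hne, he⟩ := Finite.exists_ne_map_eq_of_infinite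
    (fun i : ℕ => (⟨x ^ q ^ i, Multiset.mem_toFinset.2 (hm i)⟩ : R.toFinset))
  have he' : x ^ q ^ i = x ^ q ^ j := congrArg Subtype.val he
  have key : ∀ i j, i < j → x ^ q ^ i = x ^ q ^ j →
      ∃ k, 0 < k ∧ (x ^ q ^ k = x ∨ x ^ q ^ k = x⁻¹) := by
    intro i j hij e
    refine ⟨j - i, by omega, Or.inl (h.iter_inj i ?_).symm⟩
    change x ^ q ^ i = (x ^ q ^ (j - i)) ^ q ^ i
    rw [← pow_mul, ← pow_add, Nat.sub_add_cancel hij.le, e]
  rcases lt_or_gt_of_ne hne with hl | hl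
  · exact key i j hl he'
  · exact key j i hl he'.symm

omit h in
/-- The least `k` with `x ^ q ^ k = x` or `x⁻¹`. -/
noncomputable def per (q : ℕ) (x : K) : ℕ :=
  if e : ∃ k, 0 < k ∧ (x ^ q ^ k = x ∨ x ^ q ^ k = x⁻¹) then Nat.find e else 0

theorem per_spec {x : K} (hx : x ∈ R) :
    0 < per q x ∧ (x ^ q ^ per q x = x ∨ x ^ q ^ per q x = x⁻¹) := by
  rw [per, dif_pos (h.exists_period hx)]
  exact Nat.find_spec (h.exists_period hx)

theorem per_min {x : K} {k : ℕ} (hk : 0 < k) (hk' : k < per q x) :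
    x ^ q ^ k ≠ x ∧ x ^ q ^ k ≠ x⁻¹ := by
  have e : ∃ k, 0 < k ∧ (x ^ q ^ k = x ∨ x ^ q ^ k = x⁻¹) := by
    by_contra e
    rw [per, dif_neg e] at hk'
    omega
  rw [per, dif_pos e] at hk'
  have := Nat.find_min e hk'
  tauto

omit h in
/-- The orbit of `x`. -/
noncomputable def orb (q : ℕ) (x : K) : Finset K :=
  (Finset.range (per q x)).image (fun i => x ^ q ^ i) ∪
    (Finset.range (per q x)).image (fun i => (x ^ q ^ i)⁻¹)

omit h in
theorem mem_orb {x y : K} :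
    y ∈ orb q x ↔ ∃ i < per q x, y = x ^ q ^ i ∨ y = (x ^ q ^ i)⁻¹ := by
  simp only [orb, Finset.mem_union, Finset.mem_image, Finset.mem_range]
  constructor
  · rintro (⟨i, hi, rfl⟩ | ⟨i, hi, rfl⟩)
    · exact ⟨i, hi, Or.inl rfl⟩
    · exact ⟨i, hi, Or.inr rfl⟩
  · rintro ⟨i, hi, rfl | rfl⟩
    · exact Or.inl ⟨i, hi, rfl⟩
    · exact Or.inr ⟨i, hi, rfl⟩

theorem self_mem_orb {x : K} (hx : x ∈ R) : x ∈ orb q x :=
  mem_orb.2 ⟨0, (h.per_spec hx).1, Or.inl (by rw [pow_zero, pow_one])⟩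

theorem count_orb {x y : K} (hy : y ∈ orb q x) : R.count y = R.count x := by
  obtain ⟨i, -, rfl | rfl⟩ := mem_orb.1 hy
  · exact h.count_iter x i
  · rw [h.count_inv, h.count_iter]

omit h in
theorem inv_mem_orb {x y : K} (hy : y ∈ orb q x) : y⁻¹ ∈ orb q x := by
  obtain ⟨i, hi, rfl | rfl⟩ := mem_orb.1 hy
  · exact mem_orb.2 ⟨i, hi, Or.inr rfl⟩
  · exact mem_orb.2 ⟨i, hi, Or.inl (inv_inv _)⟩

theorem pow_mem_orb {x : K} (hx : x ∈ R) {y : K} (hy : y ∈ orb q x) : y ^ q ∈ orb q x := by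
  obtain ⟨hpos, hper⟩ := h.per_spec hx
  have key : ∀ i < per q x, (x ^ q ^ i) ^ q ∈ orb q x := by
    intro i hi
    rw [← pow_mul, ← pow_succ]
    by_cases hl : i + 1 < per q x
    · exact mem_orb.2 ⟨i + 1, hl, Or.inl rfl⟩
    · rw [show i + 1 = per q x by omega]
      rcases hper with e | e <;> rw [e]
      · exact h.self_mem_orb hx
      · exact inv_mem_orb (h.self_mem_orb hx)
  obtain ⟨i, hi, rfl | rfl⟩ := mem_orb.1 hy
  · exact key i hi
  · rw [inv_pow]
    exact inv_mem_orb (key i hi)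

theorem iter_mem_orb {x : K} (hx : x ∈ R) {y : K} (hy : y ∈ orb q x) (j : ℕ) :
    y ^ q ^ j ∈ orb q x := by
  induction j with
  | zero => simpa using hy
  | succ j ih => rw [pow_succ, pow_mul]; exact h.pow_mem_orb hx ih

theorem inv_ne_self {y : K} (hy : y ∈ R) : y⁻¹ ≠ y := by
  intro e
  have h1 : y * y = 1 := by
    conv_lhs => arg 1; rw [← e]
    exact inv_mul_cancel₀ (h.ne_zero y hy)
  rcases mul_self_eq_one_iff.1 h1 with rfl | rfl
  exacts [h.ne_one _ hy rfl, h.ne_neg_one _ hy rfl]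

theorem mem_iter {x : K} (hx : x ∈ R) (i : ℕ) : x ^ q ^ i ∈ R := by
  rw [← Multiset.count_pos, h.count_iter]
  exact Multiset.count_pos.2 hx

theorem card_orb {x : K} (hx : x ∈ R) : (orb q x).card = 2 * per q x := by
  have hx0 := h.ne_zero x hx
  have hno : ∀ i j, i < j → j < per q x →
      x ^ q ^ i ≠ x ^ q ^ j ∧ x ^ q ^ i ≠ (x ^ q ^ j)⁻¹ := by
    intro i j hij hj
    obtain ⟨d, rfl⟩ : ∃ d, j = d + i := ⟨j - i, by omega⟩
    obtain ⟨m1, m2⟩ := h.per_min (x := x) (show 0 < d by omega) (by omega)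
    rw [pow_add, pow_mul, ← inv_pow]
    exact ⟨fun e => m1 (h.iter_inj i e).symm, fun e => m2 ((inv_inv _).symm.trans (congrArg (·⁻¹) (h.iter_inj i e)).symm)⟩
  have hne : ∀ i, x ^ q ^ i ≠ (x ^ q ^ i)⁻¹ := fun i e => h.inv_ne_self (h.mem_iter hx i) e.symm
  have hinj : ∀ i ∈ Finset.range (per q x), ∀ j ∈ Finset.range (per q x),
      x ^ q ^ i = x ^ q ^ j → i = j := by
    intro i hi j hj e
    rw [Finset.mem_range] at hi hj
    rcases lt_trichotomy i j with hl | hl | hl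
    · exact absurd e (hno i j hl hj).1
    · exact hl
    · exact absurd e.symm (hno j i hl hi).1
  rw [orb, Finset.card_union_of_disjoint ?_, Finset.card_image_of_injOn hinj,
    Finset.card_image_of_injOn (fun i hi j hj e => hinj i hi j hj (inv_injective e)),
    Finset.card_range, two_mul]
  rw [Finset.disjoint_left]
  simp only [Finset.mem_image, Finset.mem_range]
  rintro y ⟨i, hi, rfl⟩ ⟨j, hj, e⟩
  rcases lt_trichotomy i j with hl | hl | hl
  · exact (hno i j hl hj).2 e.symm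
  · subst hl; exact hne i e.symm
  · exact (hno j i hl hi).2 (by rw [← e, inv_inv])

theorem sum_count_le (S : Finset K) : ∑ y ∈ S, R.count y ≤ R.card := by
  rw [← Multiset.toFinset_sum_count_eq R,
    ← Finset.sum_filter_ne_zero (s := S) (f := fun y => R.count y)]
  refine Finset.sum_le_sum_of_subset fun y hy => ?_
  rw [Multiset.mem_toFinset, ← Multiset.count_pos]
  exact Nat.pos_of_ne_zero (Finset.mem_filter.1 hy).2

theorem sum_orb {x : K} (hx : x ∈ R) :
    ∑ y ∈ orb q x, R.count y = 2 * per q x * R.count x := by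
  rw [Finset.sum_const_nat (fun y hy => h.count_orb hy), h.card_orb hx]

theorem disjoint_orb {x z : K} (hx : x ∈ R) (hz : z ∈ R) (hzo : z ∉ orb q x) :
    Disjoint (orb q x) (orb q z) := by
  rw [Finset.disjoint_left]
  intro y hy hy'
  obtain ⟨hpos, hper⟩ := h.per_spec hz
  have hcl : ∀ i < per q z, z ^ q ^ i ∈ orb q x → False := by
    intro i hi hm
    have hm' := h.iter_mem_orb hx hm (per q z - i)
    rw [← pow_mul, ← pow_add, show i + (per q z - i) = per q z by omega] at hm'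
    rcases hper with e | e <;> rw [e] at hm'
    · exact hzo hm'
    · exact hzo (inv_inv z ▸ inv_mem_orb hm')
  obtain ⟨i, hi, rfl | rfl⟩ := mem_orb.1 hy'
  · exact hcl i hi hy
  · exact hcl i hi (inv_inv (z ^ q ^ i) ▸ inv_mem_orb hy)

theorem pos_count {x : K} (hx : x ∈ R) : 0 < R.count x := Multiset.count_pos.2 hx

/-- The weight of an orbit. -/
theorem bound₁ {x : K} (hx : x ∈ R) : 2 * (per q x * R.count x) ≤ R.card := by
  have e := h.sum_count_le (orb q x)
  rwa [h.sum_orb hx, Nat.mul_assoc] at e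

theorem bound₂ {x z : K} (hx : x ∈ R) (hz : z ∈ R) (hzo : z ∉ orb q x) :
    2 * (per q x * R.count x) + 2 * (per q z * R.count z) ≤ R.card := by
  have e := h.sum_count_le (orb q x ∪ orb q z)
  rw [Finset.sum_union (h.disjoint_orb hx hz hzo), h.sum_orb hx, h.sum_orb hz, Nat.mul_assoc,
    Nat.mul_assoc] at e
  exact e

theorem weight_pos {x : K} (hx : x ∈ R) : 1 ≤ per q x * R.count x :=
  Nat.mul_pos (h.per_spec hx).1 (h.pos_count hx)

theorem per_pow {x : K} (hx : x ∈ R) :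
    x ^ (q ^ per q x - 1) = 1 ∨ x ^ (q ^ per q x + 1) = 1 := by
  have hx0 := h.ne_zero x hx
  rcases (h.per_spec hx).2 with e | e
  · left
    refine mul_left_cancel₀ hx0 ?_
    rw [← pow_succ', Nat.sub_add_cancel (Nat.one_le_pow _ _ (by linarith [h.hq])), e, mul_one]
  · right
    rw [pow_succ, e, inv_mul_cancel₀ hx0]

omit h in
theorem pow_eq_one_orb {x : K} {M : ℕ} (hM : x ^ M = 1) {y : K} (hy : y ∈ orb q x) :
    y ^ M = 1 := by
  obtain ⟨i, -, rfl | rfl⟩ := mem_orb.1 hy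
  · rw [← pow_mul, Nat.mul_comm, pow_mul, hM, one_pow]
  · rw [inv_pow, ← pow_mul, Nat.mul_comm, pow_mul, hM, one_pow, inv_one]

theorem orderOf_orb {x y : K} (hy : y ∈ orb q x) {j : ℕ} : y ^ j = 1 ↔ x ^ j = 1 := by
  refine ⟨fun e => ?_, fun e => pow_eq_one_orb e hy⟩
  obtain ⟨i, -, rfl | rfl⟩ := mem_orb.1 hy
  · rw [← pow_mul, Nat.mul_comm, pow_mul] at e
    exact h.iter_inj i (e.trans (one_pow _).symm)
  · rw [inv_pow, inv_eq_one, ← pow_mul, Nat.mul_comm, pow_mul] at e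
    exact h.iter_inj i (e.trans (one_pow _).symm)

end Symm

open Symm

variable {K : Type*} [Field K] {q : ℕ} {R : Multiset K}

omit [Field K] in
theorem pow_dvd {G : Type*} [Monoid G] {x : G} {a b : ℕ} (h : x ^ a = 1) (hd : a ∣ b) : x ^ b = 1 := by
  obtain ⟨c, rfl⟩ := hd
  rw [pow_mul, h, one_pow]

theorem arith (hq : Odd q) (hq2 : 2 ≤ q) :
    q - 1 ∣ (q ^ 4 - 1) / 2 ∧ q + 1 ∣ (q ^ 4 - 1) / 2 ∧ q ^ 2 - 1 ∣ (q ^ 4 - 1) / 2 ∧
      q ^ 2 + 1 ∣ (q ^ 4 - 1) / 2 ∧ q - 1 ∣ q ^ 2 - 1 ∧ q + 1 ∣ q ^ 2 - 1 ∧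
      q ^ 3 + 1 ∣ (q ^ 3 + 1) * (q - 1) / 2 ∧ q - 1 ∣ (q ^ 3 + 1) * (q - 1) / 2 ∧
      q + 1 ∣ (q ^ 3 + 1) * (q - 1) / 2 ∧
      q ^ 3 - 1 ∣ (q ^ 3 - 1) * (q + 1) / 2 ∧ q - 1 ∣ (q ^ 3 - 1) * (q + 1) / 2 ∧
      q + 1 ∣ (q ^ 3 - 1) * (q + 1) / 2 ∧
      q ^ 2 + 1 ∣ (q ^ 2 + 1) * (q - 1) / 2 ∧ q - 1 ∣ (q ^ 2 + 1) * (q - 1) / 2 ∧
      q ^ 2 + 1 ∣ (q ^ 2 + 1) * (q + 1) / 2 ∧ q + 1 ∣ (q ^ 2 + 1) * (q + 1) / 2 := by
  obtain ⟨s, rfl⟩ := hq
  have e1 : (2 * s + 1) ^ 2 - 1 = 4 * s * (s + 1) :=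
    Nat.sub_eq_of_eq_add (by ring)
  have e4 : (2 * s + 1) ^ 4 - 1 = 2 * (4 * s * (s + 1) * (2 * s * s + 2 * s + 1)) :=
    Nat.sub_eq_of_eq_add (by ring)
  have e2 : (2 * s + 1) ^ 2 + 1 = 2 * (2 * s * s + 2 * s + 1) := by ring
  have e3 : (2 * s + 1) ^ 3 + 1 = 2 * (s + 1) * (4 * s * s + 2 * s + 1) := by ring
  have e3' : (2 * s + 1) ^ 3 - 1 = 2 * s * (4 * s * s + 6 * s + 3) :=
    Nat.sub_eq_of_eq_add (by ring)
  have em : 2 * s + 1 - 1 = 2 * s := by omega
  rw [e1, e4, e2, e3, e3', em, show 2 * s + 1 + 1 = 2 * (s + 1) by ring,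
    Nat.mul_div_cancel_left _ (by norm_num : 0 < 2)]
  have d : ∀ A B : ℕ, 2 * A * B * (2 * s) / 2 = 2 * A * B * s := fun A B => by
    rw [show 2 * A * B * (2 * s) = 2 * (2 * A * B * s) by ring,
      Nat.mul_div_cancel_left _ (by norm_num : 0 < 2)]
  have d' : ∀ A B : ℕ, 2 * A * B * (2 * (s + 1)) / 2 = 2 * A * B * (s + 1) := fun A B => by
    rw [show 2 * A * B * (2 * (s + 1)) = 2 * (2 * A * B * (s + 1)) by ring,
      Nat.mul_div_cancel_left _ (by norm_num : 0 < 2)]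
  have d2 : ∀ A : ℕ, 2 * A * (2 * s) / 2 = 2 * A * s := fun A => by
    rw [show 2 * A * (2 * s) = 2 * (2 * A * s) by ring,
      Nat.mul_div_cancel_left _ (by norm_num : 0 < 2)]
  have d2' : ∀ A : ℕ, 2 * A * (2 * (s + 1)) / 2 = 2 * A * (s + 1) := fun A => by
    rw [show 2 * A * (2 * (s + 1)) = 2 * (2 * A * (s + 1)) by ring,
      Nat.mul_div_cancel_left _ (by norm_num : 0 < 2)]
  rw [d, d', d2, d2']
  refine ⟨⟨2 * (s + 1) * (2 * s * s + 2 * s + 1), by ring⟩, ⟨2 * s * (2 * s * s + 2 * s + 1), by ring⟩,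
    ⟨2 * s * s + 2 * s + 1, by ring⟩, ⟨2 * s * (s + 1), by ring⟩, ⟨2 * (s + 1), by ring⟩,
    ⟨2 * s, by ring⟩, ⟨s, by ring⟩, ⟨(s + 1) * (4 * s * s + 2 * s + 1), by ring⟩,
    ⟨s * (4 * s * s + 2 * s + 1), by ring⟩, ⟨s + 1, by ring⟩,
    ⟨(s + 1) * (4 * s * s + 6 * s + 3), by ring⟩, ⟨s * (4 * s * s + 6 * s + 3), by ring⟩,
    ⟨s, by ring⟩, ⟨2 * s * s + 2 * s + 1, by ring⟩, ⟨s + 1, by ring⟩,
    ⟨2 * s * s + 2 * s + 1, by ring⟩⟩

/-- Dimension at most two. -/
theorem classify_two (h : Symm K q R) (hc : R.card ≤ 2) :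
    ∃ M ∈ [q - 1, q + 1], ∀ x ∈ R, x ^ M = 1 ∧ R.count x ≤ 1 := by
  by_cases hR : ∃ x, x ∈ R
  · obtain ⟨x, hx⟩ := hR
    have hb := h.bound₁ hx
    have hw := h.weight_pos hx
    have e : per q x * R.count x = 1 := by omega
    have hk := Nat.eq_one_of_mul_eq_one_right e
    have hmem : ∀ w ∈ R, w ∈ orb q x := fun w hw' => by
      by_contra hwo
      have := h.bound₂ hx hw' hwo
      have := h.weight_pos hw'
      omega
    have key : ∀ M, x ^ M = 1 → ∀ w ∈ R, w ^ M = 1 ∧ R.count w ≤ 1 := fun M hM w hw' =>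
      ⟨pow_eq_one_orb hM (hmem w hw'), by
        rw [h.count_orb (hmem w hw'), Nat.eq_one_of_mul_eq_one_left e]⟩
    rcases h.per_pow hx with e' | e' <;> rw [hk, pow_one] at e'
    · exact ⟨q - 1, by simp, key _ e'⟩
    · exact ⟨q + 1, by simp, key _ e'⟩
  · push Not at hR
    exact ⟨q - 1, by simp, fun x hx => absurd hx (hR x)⟩

theorem per_le_two {x : K} (h : Symm K q R) (hx : x ∈ R) (h3 : per q x ≤ 2) :
    x ^ (q ^ 2 + 1) = 1 ∧ per q x = 2 ∨ x ^ (q ^ 2 - 1) = 1 := by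
  obtain ⟨-, -, -, -, a, b, -⟩ := arith h.hodd h.hq
  have := (h.per_spec hx).1
  rcases (by omega : per q x = 1 ∨ per q x = 2) with hk | hk <;>
    rcases h.per_pow hx with e | e <;> rw [hk] at e
  · rw [pow_one] at e; exact Or.inr (pow_dvd e a)
  · rw [pow_one] at e; exact Or.inr (pow_dvd e b)
  · exact Or.inr e
  · exact Or.inl ⟨e, hk⟩

/-- Dimension at most four. -/
theorem classify_four (h : Symm K q R) (hc : R.card ≤ 4) :
    ∃ M ∈ [q ^ 2 + 1, q ^ 2 - 1], ∀ x ∈ R, x ^ M = 1 ∧ R.count x ≤ 2 := by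
  have hle : ∀ x ∈ R, per q x ≤ 2 ∧ R.count x ≤ 2 := fun x hx => by
    have := h.bound₁ hx
    have h1 := Nat.le_mul_of_pos_right (per q x) (h.pos_count hx)
    have h2 := Nat.le_mul_of_pos_left (R.count x) (h.per_spec hx).1
    omega
  by_cases hm : ∃ x ∈ R, x ^ (q ^ 2 + 1) = 1 ∧ per q x = 2
  · obtain ⟨x, hx, he, hk⟩ := hm
    refine ⟨q ^ 2 + 1, by simp, fun w hw => ⟨?_, (hle w hw).2⟩⟩
    by_cases hwo : w ∈ orb q x
    · exact pow_eq_one_orb he hwo
    · have := h.bound₂ hx hw hwo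
      have := h.weight_pos hw
      have := h.pos_count hx
      rw [hk] at *
      omega
  · push Not at hm
    refine ⟨q ^ 2 - 1, by simp, fun w hw => ⟨?_, (hle w hw).2⟩⟩
    rcases per_le_two h hw (hle w hw).1 with e | e
    · exact absurd e.2 (hm w hw e.1)
    · exact e

/-- Dimension at most eight. -/
theorem classify_eight (h : Symm K q R) :
    (R.card = 8 ∧ ∃ o : ℕ, (o ∣ q ^ 4 + 1 ∨ o ∣ q ^ 4 - 1) ∧
      ∀ x ∈ R, R.count x ≤ 1 ∧ ∀ j : ℕ, x ^ j = 1 ↔ o ∣ j) ∨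
    (∃ M ∈ [(q ^ 3 + 1) * (q - 1) / 2, (q ^ 3 - 1) * (q + 1) / 2, (q ^ 4 - 1) / 2],
      ∀ x ∈ R, x ^ M = 1 ∧ R.count x ≤ 1) ∨
    (∃ M ∈ [(q ^ 2 + 1) * (q - 1) / 2, (q ^ 2 + 1) * (q + 1) / 2],
      ∀ x ∈ R, x ^ M = 1 ∧ R.count x ≤ 2) ∨
    (∀ x ∈ R, x ^ (q ^ 2 - 1) = 1 ∧ 2 * R.count x ≤ R.card) := by
  obtain ⟨a1, a2, a3, a4, a5, a6, b1, b2, b3, c1, c2, c3, d1, d2, d3, d4⟩ := arith h.hodd h.hq
  have h8 := h.card
  by_cases hbig : ∃ x ∈ R, 3 ≤ per q x
  · obtain ⟨x, hx, hk⟩ := hbig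
    have hb := h.bound₁ hx
    have hc : R.count x = 1 := by have := h.pos_count hx; nlinarith
    rw [hc, mul_one] at hb
    rcases (by omega : per q x = 3 ∨ per q x = 4) with hk' | hk'
    · right; left
      have hother : ∀ w ∈ R, w ∉ orb q x → per q w = 1 ∧ R.count w = 1 := fun w hw hwo => by
        have := h.bound₂ hx hw hwo
        rw [hc, mul_one] at this
        have hp := h.weight_pos hw
        have e : per q w * R.count w = 1 := by omega
        exact ⟨Nat.eq_one_of_mul_eq_one_right e, Nat.eq_one_of_mul_eq_one_left e⟩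
      have key : ∀ M, x ^ M = 1 → q - 1 ∣ M → q + 1 ∣ M → ∀ w ∈ R, w ^ M = 1 ∧ R.count w ≤ 1 := by
        intro M hM hm hp w hw
        by_cases hwo : w ∈ orb q x
        · exact ⟨pow_eq_one_orb hM hwo, by rw [h.count_orb hwo, hc]⟩
        · obtain ⟨hwk, hwc⟩ := hother w hw hwo
          refine ⟨?_, hwc.le⟩
          rcases h.per_pow hw with e | e <;> rw [hwk, pow_one] at e
          exacts [pow_dvd e hm, pow_dvd e hp]
      rcases h.per_pow hx with e | e <;> rw [hk'] at e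
      · exact ⟨_, by simp, key _ (pow_dvd e c1) c2 c3⟩
      · exact ⟨(q ^ 3 + 1) * (q - 1) / 2, by simp, key _ (pow_dvd e b1) b2 b3⟩
    · left
      refine ⟨by omega, orderOf x, ?_, fun w hw => ?_⟩
      · rcases h.per_pow hx with e | e <;> rw [hk'] at e
        exacts [Or.inr (orderOf_dvd_of_pow_eq_one e), Or.inl (orderOf_dvd_of_pow_eq_one e)]
      · have hwo : w ∈ orb q x := by
          by_contra hwo
          have := h.bound₂ hx hw hwo
          rw [hc, mul_one, hk'] at this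
          have := h.weight_pos hw
          omega
        exact ⟨by rw [h.count_orb hwo, hc], fun j => by
          rw [h.orderOf_orb hwo, orderOf_dvd_iff_pow_eq_one]⟩
  push Not at hbig
  have hper : ∀ x ∈ R, per q x ≤ 2 := fun x hx => by have := hbig x hx; omega
  right
  by_cases hsimple : ∀ w ∈ R, R.count w ≤ 1
  · left
    refine ⟨(q ^ 4 - 1) / 2, by simp, fun w hw => ⟨?_, hsimple w hw⟩⟩
    rcases per_le_two h hw (hper w hw) with e | e
    exacts [pow_dvd e.1 a4, pow_dvd e a3]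
  push Not at hsimple
  right
  by_cases hm : ∃ x ∈ R, x ^ (q ^ 2 + 1) = 1 ∧ per q x = 2
  · left
    obtain ⟨x, hx, he, hk⟩ := hm
    obtain ⟨u, hu, hu2⟩ := hsimple
    have hcx : R.count x ≤ 2 := by
      have := h.bound₁ hx
      rw [hk] at this
      omega
    by_cases huo : u ∈ orb q x
    · rw [h.count_orb huo] at hu2
      refine ⟨(q ^ 2 + 1) * (q - 1) / 2, by simp, fun w hw => ?_⟩
      have hwo : w ∈ orb q x := by
        by_contra hwo
        have := h.bound₂ hx hw hwo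
        have := h.weight_pos hw
        rw [hk] at *
        omega
      exact ⟨pow_dvd (pow_eq_one_orb he hwo) d1, by rw [h.count_orb hwo]; exact hcx⟩
    · have hb := h.bound₂ hx hu huo
      rw [hk] at hb
      have hp := h.pos_count hx
      have hle : R.count u ≤ per q u * R.count u := Nat.le_mul_of_pos_left _ (h.per_spec hu).1
      have hcx1 : R.count x = 1 := by omega
      have hw2 : per q u * R.count u = 2 := by omega
      have hcu : R.count u = 2 := by omega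
      have hku : per q u = 1 := by rw [hcu] at hw2; omega
      have hmem : ∀ w ∈ R, w ∈ orb q x ∨ w ∈ orb q u := by
        intro w hw
        by_contra hh
        push Not at hh
        have e := h.sum_count_le (orb q x ∪ orb q u ∪ orb q w)
        rw [Finset.sum_union (Finset.disjoint_union_left.2
            ⟨h.disjoint_orb hx hw hh.1, h.disjoint_orb hu hw hh.2⟩),
          Finset.sum_union (h.disjoint_orb hx hu huo), h.sum_orb hx, h.sum_orb hu, h.sum_orb hw,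
          hk, hcx1, hku, hcu, Nat.mul_assoc 2 (per q w)] at e
        have := h.weight_pos hw
        omega
      have key : ∀ M, q ^ 2 + 1 ∣ M → u ^ M = 1 → ∀ w ∈ R, w ^ M = 1 ∧ R.count w ≤ 2 := by
        intro M hM hu' w hw
        rcases hmem w hw with hm | hm
        · exact ⟨pow_dvd (pow_eq_one_orb he hm) hM, by rw [h.count_orb hm, hcx1]; norm_num⟩
        · exact ⟨pow_eq_one_orb hu' hm, by rw [h.count_orb hm, hcu]⟩
      rcases h.per_pow hu with e | e <;> rw [hku, pow_one] at e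
      · exact ⟨_, by simp, key _ d1 (pow_dvd e d2)⟩
      · exact ⟨(q ^ 2 + 1) * (q + 1) / 2, by simp, key _ d3 (pow_dvd e d4)⟩
  · push Not at hm
    right
    intro w hw
    refine ⟨?_, le_trans ?_ (h.bound₁ hw)⟩
    · rcases per_le_two h hw (hper w hw) with e | e
      · exact absurd e.2 (hm w hw e.1)
      · exact e
    · exact Nat.mul_le_mul_left 2 (Nat.le_mul_of_pos_left _ (h.per_spec hw).1)

end CfsgLib.Recog.OmegaNine
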