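import Cfsg.Agent.Lib.Recog.OmegaNine.Split
import Cfsg.Agent.Lib.FieldExtEmbed.Quadratic

/-!
Cyclic tori of orders `q ^ a ± 1` with their type and spinor characters.
-/

set_option autoImplicit false
set_option linter.unusedSectionVars false

namespace CfsgLib.Recog.OmegaNine

open Matrix QuadraticMap CfsgLib.Orth CfsgLib.FieldExtEmbed

variable {F : Type*} [Field F] [Fintype F] [DecidableEq F] {ι : Type} [Fintype ι] [DecidableEq ι]
  {Q : QuadraticForm F (ι → F)}

theorem det_plusQ (a : ℕ) : (CfsgLib.QuadFin.gram ⇑(plusQ a F)).det = (-1) ^ a := by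
  have h : CfsgLib.QuadFin.gram ⇑(plusQ a F) =
      fromBlocks (1 : Matrix (Fin a) (Fin a) F) 1 0 1 * fromBlocks (-1) 0 1 1 *
        fromBlocks (1 : Matrix (Fin a) (Fin a) F) (-1) 0 1 := by
    simp only [fromBlocks_multiply]
    ext (i | i) (j | j) <;>
      simp [CfsgLib.QuadFin.gram, polar_plusQ, Matrix.one_apply, Pi.single_apply, eq_comm]
  rw [h, det_mul, det_mul, det_fromBlocks_zero₂₁, det_fromBlocks_zero₁₂, det_fromBlocks_zero₂₁]
  simp [Matrix.det_neg]

theorem card_fiber {V : Type*} [AddCommGroup V] [Module F V] [Finite V] (f : V →ₗ[F] F) {v : V}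
    (hv : f v = 1) : Nat.card {w : V // f w = 1} * Fintype.card F = Nat.card V ∧
      Nat.card {w : V // f w = 1} ∣ Nat.card V := by
  have e : {w : V // f w = 1} ≃ LinearMap.ker f :=
    { toFun := fun w => ⟨w.1 - v, by simp [w.2, hv]⟩
      invFun := fun w => ⟨w.1 + v, by simp [hv, LinearMap.mem_ker.1 w.2]⟩
      left_inv := fun w => by simp
      right_inv := fun w => by simp }
  rw [Nat.card_congr e]
  have h : Nat.card (LinearMap.ker f) * Fintype.card F = Nat.card V := by
    rw [Submodule.card_eq_card_quotient_mul_card (LinearMap.ker f),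
      Nat.card_congr (f.quotKerEquivOfSurjective (fun x => ⟨x • v, by simp [hv]⟩)).toEquiv,
      Nat.card_eq_fintype_card (α := F), mul_comm]
  exact ⟨h, ⟨_, h.symm⟩⟩

theorem card_shell_plus {a : ℕ} (ha : 1 ≤ a) :
    Nat.card (Shell (plusQ a F) 1) = (Fintype.card F ^ a - 1) * Fintype.card F ^ (a - 1) := by
  classical
  let f : (Fin a → F) → ((Fin a → F) →ₗ[F] F) := fun x =>
    { toFun := fun y => x ⬝ᵥ y
      map_add' := fun y z => dotProduct_add x y z
      map_smul' := fun c y => by simp }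
  have e : Shell (plusQ a F) 1 ≃ Σ x : {x : Fin a → F // x ≠ 0}, {y : Fin a → F // f x.1 y = 1} :=
    { toFun := fun v => ⟨⟨v.1 ∘ Sum.inl, fun h => by
          have := (congrFun (plusQ_coe a) v.1).symm.trans v.2
          simp only [Cfsg.quadFormPlus] at this
          rw [Finset.sum_eq_zero (fun i _ => by
            rw [show v.1 (Sum.inl i) = (v.1 ∘ Sum.inl) i from rfl, h, Pi.zero_apply, zero_mul])]
            at this
          exact zero_ne_one this⟩, ⟨v.1 ∘ Sum.inr, by
          exact (congrFun (plusQ_coe a) v.1).symm.trans v.2⟩⟩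
      invFun := fun p => ⟨Sum.elim p.1.1 p.2.1, by
          rw [plusQ_coe]
          exact p.2.2⟩
      left_inv := fun v => Subtype.ext (funext fun s => by rcases s with s | s <;> rfl)
      right_inv := fun p => rfl }
  rw [Nat.card_congr e, Nat.card_sigma]
  have hfib : ∀ x : {x : Fin a → F // x ≠ 0},
      Nat.card {y : Fin a → F // f x.1 y = 1} = Fintype.card F ^ (a - 1) := by
    intro x
    obtain ⟨i, hi⟩ := Function.ne_iff.1 x.2
    have h := (card_fiber (f x.1) (v := Pi.single i (x.1 i)⁻¹) (by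
      show x.1 ⬝ᵥ _ = 1
      rw [dotProduct_single, mul_inv_cancel₀ hi])).1
    rw [Nat.card_fun, Nat.card_eq_fintype_card (α := F), Nat.card_eq_fintype_card (α := Fin a),
      Fintype.card_fin, show Fintype.card F ^ a = Fintype.card F ^ (a - 1) * Fintype.card F by
        rw [← pow_succ, Nat.sub_add_cancel ha]] at h
    exact Nat.eq_of_mul_eq_mul_right Fintype.card_pos h
  rw [Finset.sum_congr rfl fun x _ => hfib x, Finset.sum_const, Finset.card_univ, smul_eq_mul,
    Fintype.card_subtype_compl, Fintype.card_subtype_eq, Fintype.card_fun, Fintype.card_fin]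

/-- Freeness gives both characters. -/
theorem chiPair_of_free (hQ : Q.polarBilin.Nondegenerate) (h2 : (2 : F) ≠ 0) {d : F}
    (hd : ¬ IsSquare d) (hι : Even (Fintype.card ι)) (g : O Q) {o t : ℕ} (ho : Even o) (ho0 : o ≠ 0)
    (hfree : ∀ x, x ≠ 0 → ∀ j : ℕ, app (g ^ j) x = x ↔ o ∣ j)
    (hcard : Nat.card (Shell Q 1) = o * t) : chiPair Q d g = ((-1) ^ t, (-1) ^ t) := by
  have h1 := chi_of_free g ho ho0 hfree hcard
  have hdet : (detHom Q g : F) = 1 := by
    rw [det_of_fixed_free hQ g fun x hx => by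
      by_contra h0
      have := (hfree x h0 1).1 (by rwa [pow_one])
      rw [Nat.dvd_one] at this
      rw [this] at ho
      exact absurd ho (by decide), hι.neg_one_pow]
  rw [detHom_eq hQ h2 hd, h1] at hdet
  rw [chiPair, MonoidHom.prod_apply, h1]
  rcases Int.units_eq_one_or (chi Q d g) with h | h <;>
    rcases neg_one_pow_eq_or ℤˣ t with h' | h' <;> rw [h, h'] at hdet ⊢
  · exact absurd (show (-1 : F) = 1 by simpa using hdet) fun e => h2 (by linear_combination -e)
  · exact absurd (show (-1 : F) = 1 by simpa using hdet) fun e => h2 (by linear_combination -e)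

theorem odd_card (h2 : (2 : F) ≠ 0) : Odd (Fintype.card F) := by
  rw [Nat.odd_iff]
  refine FiniteField.odd_card_of_char_ne_two fun h => h2 ?_
  have : CharP F 2 := ringChar.of_eq h
  exact CharTwo.two_eq_zero

/-- The split torus. -/
theorem exists_torus_plus (h2 : (2 : F) ≠ 0) {d : F} (hd : ¬ IsSquare d) {a : ℕ} (ha : 1 ≤ a) :
    ∃ g : O (plusQ a F), orderOf g = Fintype.card F ^ a - 1 ∧
      chiPair (plusQ a F) d g = (-1, -1) := by
  obtain ⟨p, hp⟩ := CharP.exists F
  have : Fact p.Prime := ⟨CharP.char_is_prime F p⟩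
  have : NeZero a := ⟨by omega⟩
  let K := FiniteField.Extension F p a
  have : Finite K := Module.finite_of_finite F
  have hrank : Module.finrank F K = a := FiniteField.finrank_extension F p a
  let e : (Fin a → F) ≃ₗ[F] K := (Module.finBasisOfFinrankEq F K hrank).equivFun.symm
  obtain ⟨u, hu⟩ := IsCyclic.exists_generator (α := Kˣ)
  have huo : orderOf u = Fintype.card F ^ a - 1 := by
    rw [orderOf_eq_card_of_forall_mem_zpowers hu, Nat.card_units, FiniteField.natCard_extension,
      Nat.card_eq_fintype_card]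
  let ρ : Kˣ →* Matrix (Fin a) (Fin a) F :=
    { toFun := fun b => LinearMap.toMatrix'
        (e.symm.toLinearMap ∘ₗ LinearMap.mulLeft F (b : K) ∘ₗ e.toLinearMap)
      map_one' := by
        rw [← LinearMap.toMatrix'_id]; congr 1; ext v; simp
      map_mul' := fun b c => by
        rw [← LinearMap.toMatrix'_comp]; congr 1; ext v; simp [mul_assoc] }
  have hρ : ∀ (b : Kˣ) v, ρ b *ᵥ v = e.symm ((b : K) * e v) := fun b v => by
    simp [ρ, LinearMap.toMatrix'_mulVec]
  have hρ1 : ∀ b v, v ≠ 0 → ρ b *ᵥ v = v → b = 1 := fun b v hv h => by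
    rw [hρ, LinearEquiv.symm_apply_eq] at h
    exact Units.ext (mul_right_cancel₀ (fun h0 => hv (e.map_eq_zero_iff.1 h0))
      (by rw [h, Units.val_one, one_mul]))
  -- the action on the hyperbolic space
  let σ : Kˣ →* Matrix (Fin a ⊕ Fin a) (Fin a ⊕ Fin a) F :=
    { toFun := fun b => fromBlocks (ρ b) 0 0 (ρ b⁻¹)ᵀ
      map_one' := by simp [fromBlocks_one]
      map_mul' := fun b c => by
        rw [fromBlocks_multiply]
        simp [← Matrix.transpose_mul, ← map_mul, mul_comm] }
  have hiso : ∀ b v, plusQ a F (σ b *ᵥ v) = plusQ a F v := by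
    intro b v
    rw [plusQ_coe]
    show (σ b *ᵥ v) ∘ Sum.inl ⬝ᵥ (σ b *ᵥ v) ∘ Sum.inr = v ∘ Sum.inl ⬝ᵥ v ∘ Sum.inr
    simp only [σ, MonoidHom.coe_mk, OneHom.coe_mk, fromBlocks_mulVec, Sum.elim_comp_inl,
      Sum.elim_comp_inr, Matrix.zero_mulVec, add_zero, zero_add]
    rw [Matrix.dotProduct_mulVec, Matrix.vecMul_transpose, Matrix.mulVec_mulVec, ← map_mul,
      inv_mul_cancel, map_one, Matrix.one_mulVec]
  let φ : Kˣ →* O (plusQ a F) := σ.toHomUnits.codRestrict _ fun b w _ => hiso b w
  have hfree : ∀ b v, v ≠ 0 → app (φ b) v = v → b = 1 := by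
    intro b v hv h
    have h' : σ b *ᵥ v = v := h
    simp only [σ, MonoidHom.coe_mk, OneHom.coe_mk, fromBlocks_mulVec, Matrix.zero_mulVec, add_zero,
      zero_add] at h'
    by_contra hb
    have hl : v ∘ Sum.inl = 0 := by
      by_contra hl
      exact hb (hρ1 b _ hl (funext fun i => congrFun h' (Sum.inl i)))
    have hr : v ∘ Sum.inr = 0 := by
      by_contra hr
      obtain ⟨w, hw, hw0⟩ : ∃ w, w ≠ 0 ∧ ρ b⁻¹ *ᵥ w = w := by
        have hdet : (ρ b⁻¹ - 1)ᵀ.det = 0 := Matrix.exists_mulVec_eq_zero_iff.1 ⟨_, hr, by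
          rw [Matrix.transpose_sub, Matrix.transpose_one, Matrix.sub_mulVec, Matrix.one_mulVec,
            sub_eq_zero]
          exact funext fun i => congrFun h' (Sum.inr i)⟩
        rw [Matrix.det_transpose] at hdet
        obtain ⟨w, hw, hw0⟩ := Matrix.exists_mulVec_eq_zero_iff.2 hdet
        rw [Matrix.sub_mulVec, Matrix.one_mulVec, sub_eq_zero] at hw0
        exact ⟨w, hw, hw0⟩
      exact hb (inv_eq_one.1 (hρ1 _ w hw hw0))
    exact hv (funext fun s => by
      rcases s with s | s
      exacts [congrFun hl s, congrFun hr s])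
  have : Nontrivial (Fin a ⊕ Fin a → F) := by
    have : Nonempty (Fin a ⊕ Fin a) := ⟨Sum.inl ⟨0, ha⟩⟩
    infer_instance
  obtain ⟨v₀, hv₀⟩ := exists_ne (0 : Fin a ⊕ Fin a → F)
  have hinj : Function.Injective φ := (injective_iff_map_eq_one φ).2 fun b hb =>
    hfree b v₀ hv₀ (by rw [hb, app_one])
  refine ⟨φ u, by rw [orderOf_injective φ hinj, huo], ?_⟩
  have hodd := odd_card (F := F) h2
  have hev : Even (Fintype.card F ^ a - 1) :=
    Nat.Odd.sub_odd hodd.pow odd_one
  rw [chiPair_of_free (plusQ_nondegenerate a) h2 hd (by simp) (φ u) hev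
    (by have := Nat.one_lt_pow (show a ≠ 0 by omega) (Fintype.one_lt_card (α := F)); omega)
    (fun v hv j => ?_) (card_shell_plus ha), (hodd.pow).neg_one_pow]
  rw [← map_pow, ← huo, orderOf_dvd_iff_pow_eq_one]
  exact ⟨hfree _ v hv, fun h => by rw [h, map_one, app_one]⟩

set_option maxHeartbeats 1000000 in
/-- The elliptic torus. -/
theorem exists_torus_minus (h2 : (2 : F) ≠ 0) {d : F} (hd : ¬ IsSquare d) {a : ℕ} (ha : 1 ≤ a) :
    ∃ (R : QuadraticForm F (Fin (2 * a) → F)) (g : O R), R.polarBilin.Nondegenerate ∧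
      ¬ IsSquare ((CfsgLib.QuadFin.gram ⇑R).det * (-1) ^ a) ∧
      orderOf g = Fintype.card F ^ a + 1 ∧ chiPair R d g = (-1, -1) := by
  obtain ⟨p, hp⟩ := CharP.exists F
  have : Fact p.Prime := ⟨CharP.char_is_prime F p⟩
  have : NeZero (2 * a) := ⟨by omega⟩
  let K := FiniteField.Extension F p (2 * a)
  have : Finite K := Module.finite_of_finite F
  have hrank : Module.finrank F K = 2 * a := FiniteField.finrank_extension F p (2 * a)
  set N := Fintype.card F ^ a with hN
  have hodd := odd_card (F := F) h2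
  have hNodd : Odd N := hodd.pow
  have hN1 : 1 < N := Nat.one_lt_pow (by omega) Fintype.one_lt_card
  have hKcard : Nat.card K = N ^ 2 := by
    rw [FiniteField.natCard_extension, Nat.card_eq_fintype_card, hN, ← pow_mul, mul_comm]
  let σ : K ≃ₐ[F] K := FiniteField.Extension.frob F p (2 * a) ^ a
  have hσ : ∀ x, σ x = x ^ N := fun x => by
    rw [FiniteField.Extension.frob_iterate_apply, Nat.card_eq_fintype_card]
  have hσσ : ∀ x, σ (σ x) = x := fun x => by
    have : Fintype K := Fintype.ofFinite K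
    rw [hσ, hσ, ← pow_mul, ← pow_two, ← hKcard, Nat.card_eq_fintype_card, FiniteField.pow_card]
  let B : LinearMap.BilinMap F K F :=
    LinearMap.mk₂ F (fun x y => Algebra.trace F K (x * σ y))
      (fun x x' y => by simp [add_mul]) (fun c x y => by simp)
      (fun x y y' => by simp [mul_add]) (fun c x y => by simp)
  let e : (Fin (2 * a) → F) ≃ₗ[F] K := (Module.finBasisOfFinrankEq F K hrank).equivFun.symm
  let R : QuadraticForm F (Fin (2 * a) → F) :=
    (LinearMap.BilinMap.toQuadraticMap B).comp e.toLinearMap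
  have hRe : ∀ v, R v = Algebra.trace F K (e v * σ (e v)) := fun v => rfl
  have hRnd : R.polarBilin.Nondegenerate := by
    have key : ∀ x, (∀ y, polar R x y = 0) → x = 0 := fun x hx => by
      refine e.map_eq_zero_iff.1 ((traceForm_nondegenerate F K).1 (e x) fun z => ?_)
      have h1 := hx (e.symm (σ z))
      have h1' : Algebra.trace F K (e x * σ (σ z)) + Algebra.trace F K (σ z * σ (e x)) = 0 := by
        rw [show polar R x (e.symm (σ z)) =
          polar (LinearMap.BilinMap.toQuadraticMap B) (e x) (e (e.symm (σ z))) by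
            simp only [R, QuadraticMap.polar, QuadraticMap.comp_apply, map_add, LinearEquiv.coe_coe],
          LinearEquiv.apply_symm_apply, LinearMap.BilinMap.polar_toQuadraticMap] at h1
        exact h1
      rw [hσσ, ← map_mul, Algebra.trace_eq_of_algEquiv σ, mul_comm z] at h1'
      rw [Algebra.traceForm_apply]
      have h4 : (2 : F) * Algebra.trace F K (e x * z) = 0 := by linear_combination h1'
      exact (mul_eq_zero.1 h4).resolve_left h2
    exact ⟨key, fun y hy => key y fun x => by rw [polar_comm]; exact hy x⟩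
  -- the fixed field and the shell
  let K₀ : Submodule F K := LinearMap.eqLocus σ.toLinearMap LinearMap.id
  have hK₀ : ∀ y, y ∈ K₀ ↔ y ^ N = y := fun y => by simp [K₀, hσ]
  obtain ⟨u, hu⟩ := IsCyclic.exists_generator (α := Kˣ)
  have huo : orderOf u = (N + 1) * (N - 1) := by
    rw [orderOf_eq_card_of_forall_mem_zpowers hu, Nat.card_units, hKcard, ← one_pow 2,
      Nat.sq_sub_sq, one_pow]
  let nm : Kˣ →* Kˣ := powMonoidHom (N + 1)
  have hker : Nat.card nm.ker = N + 1 := by
    show Nat.card (powMonoidHom (N + 1) : Kˣ →* Kˣ).ker = _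
    rw [IsCyclic.card_powMonoidHom_ker, ← huo.symm.trans (orderOf_eq_card_of_forall_mem_zpowers hu)]
    exact Nat.gcd_eq_right (dvd_mul_right _ _)
  have hmem : ∀ x : K, x * σ x ∈ K₀ := fun x => by
    rw [hK₀, ← hσ, map_mul, hσσ, mul_comm]
  let tr : K₀ →ₗ[F] F := (Algebra.trace F K).comp K₀.subtype
  obtain ⟨v₁, hv₁⟩ := CfsgLib.Orth.exists_value_ne hRnd h2 (by simp; omega) (one_ne_zero : (1 : F) ≠ 0)
  have htr1 : tr ⟨_, hmem (e v₁)⟩ = 1 := hv₁
  obtain ⟨-, hdvd⟩ := card_fiber tr htr1
  have hK₀card : Nat.card K₀ ∣ N ^ 2 := hKcard ▸ K₀.toAddSubgroup.card_addSubgroup_dvd_card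
  set t := Nat.card {w : K₀ // tr w = 1} with ht
  have htodd : Odd t := Odd.of_dvd_nat hNodd.pow (hdvd.trans hK₀card)
  have hfibre : ∀ w : {w : K₀ // tr w = 1},
      Nat.card {x : K // x * σ x = (w.1 : K)} = N + 1 := by
    intro w
    have hw0 : (w.1 : K) ≠ 0 := fun h => by
      have := w.2
      rw [show w.1 = 0 from Subtype.ext h, map_zero] at this
      exact zero_ne_one this
    have hwN : (Units.mk0 _ hw0) ∈ nm.range := by
      obtain ⟨j, hj⟩ := mem_powers_iff_mem_zpowers.2 (hu (Units.mk0 _ hw0))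
      have h1 : u ^ (j * N) = u ^ j := by
        rw [pow_mul]
        show (fun x => x ^ N) ((fun n => u ^ n) j) = _
        simp only at hj ⊢
        rw [hj]
        exact Units.ext (by simpa using (hK₀ _).1 w.1.2)
      have h2' : (N + 1) * (N - 1) ∣ j * (N - 1) := by
        rw [← huo, orderOf_dvd_iff_pow_eq_one, Nat.mul_sub, mul_one, pow_sub _ (by nlinarith), h1,
          mul_inv_cancel]
      obtain ⟨c, rfl⟩ := Nat.dvd_of_mul_dvd_mul_right (by omega) h2'
      exact ⟨u ^ c, by rw [← hj]; simp [nm, ← pow_mul, mul_comm]⟩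
    obtain ⟨z, hz⟩ := hwN
    have hz' : (z : K) * σ z = (w.1 : K) := by
      have := congrArg Units.val hz
      simpa [nm, hσ, pow_succ'] using this
    rw [← hker]
    have hz0 : (z : K) ≠ 0 := z.ne_zero
    refine Nat.card_congr
      { toFun := fun x => ⟨Units.mk0 (x.1 / z) (div_ne_zero (fun h => hw0 (by rw [← x.2, h, zero_mul])) hz0),
          Units.ext (by
            simp only [nm, powMonoidHom_apply, Units.val_pow_eq_pow_val, Units.val_mk0, Units.val_one]
            rw [pow_succ', ← hσ, map_div₀, div_mul_div_comm, x.2, hz', div_self hw0])⟩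
        invFun := fun k => ⟨((k.1 : Kˣ) : K) * z, by
          have hk : ((k.1 : Kˣ) : K) * σ ((k.1 : Kˣ) : K) = 1 := by
            have := congrArg Units.val (MonoidHom.mem_ker.1 k.2)
            simpa [nm, hσ, pow_succ'] using this
          rw [map_mul, mul_mul_mul_comm, hk, one_mul, hz']⟩
        left_inv := fun x => Subtype.ext (by simp [hz0])
        right_inv := fun k => Subtype.ext (Units.ext (by simp [hz0])) }
  have hshell : Nat.card (Shell R 1) = (N + 1) * t := by
    have e' : Shell R 1 ≃ Σ w : {w : K₀ // tr w = 1}, {x : K // x * σ x = (w.1 : K)} :=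
      { toFun := fun v => ⟨⟨⟨_, hmem (e v.1)⟩, v.2⟩, ⟨e v.1, rfl⟩⟩
        invFun := fun q => ⟨e.symm q.2.1, by
          rw [hRe, LinearEquiv.apply_symm_apply, q.2.2]
          exact q.1.2⟩
        left_inv := fun v => Subtype.ext (by simp)
        right_inv := fun q => Sigma.subtype_ext (Subtype.ext (Subtype.ext (by simp [q.2.2])))
          (by simp) }
    have : Fintype {w : K₀ // tr w = 1} := Fintype.ofFinite _
    rw [Nat.card_congr e', Nat.card_sigma, Finset.sum_congr rfl fun w _ => hfibre w, Finset.sum_const,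
      Finset.card_univ, smul_eq_mul, ← Nat.card_eq_fintype_card, ← ht, mul_comm]
  have htype : ¬ IsSquare ((CfsgLib.QuadFin.gram ⇑R).det * (-1) ^ a) := by
    intro hs
    let ee : Fin a ⊕ Fin a ≃ Fin (2 * a) := finSumFinEquiv.trans (finCongr (two_mul a).symm)
    let P : QuadraticForm F (Fin (2 * a) → F) :=
      (plusQ a F).comp (LinearEquiv.funCongrLeft F F ee).toLinearMap
    have hP : (CfsgLib.QuadFin.gram ⇑P).det = (-1) ^ a := by
      rw [show P = (plusQ a F).comp (LinearEquiv.funCongrLeft F F ee.symm.symm).toLinearMap from rfl,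
        gram_comp_equiv, det_plusQ]
    obtain ⟨φ, hφ⟩ := CfsgLib.OrthUnipotent.exists_isometry h2 R P hRnd
      (nondeg_of_det (by rw [hP]; simp)) (by rwa [hP])
    have hc : Nat.card (Shell R 1) = Nat.card (Shell (plusQ a F) 1) :=
      Nat.card_congr ((φ.trans (LinearEquiv.funCongrLeft F F ee)).toEquiv.subtypeEquiv fun v => by
        rw [← hφ v]; rfl)
    rw [hshell, card_shell_plus ha, ← hN] at hc
    have hco : Nat.Coprime (N + 1) (Fintype.card F ^ (a - 1)) :=
      Nat.Coprime.coprime_dvd_right (hN ▸ pow_dvd_pow _ (Nat.sub_le a 1))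
        (Nat.coprime_self_add_left.2 (Nat.coprime_one_left _))
    have := Nat.le_of_dvd (by omega) (hco.dvd_of_dvd_mul_right ⟨t, hc.symm⟩)
    omega
  let ρ : Kˣ →* Matrix (Fin (2 * a)) (Fin (2 * a)) F :=
    { toFun := fun b => LinearMap.toMatrix'
        (e.symm.toLinearMap ∘ₗ LinearMap.mulLeft F (b : K) ∘ₗ e.toLinearMap)
      map_one' := by
        rw [← LinearMap.toMatrix'_id]; congr 1; ext v; simp
      map_mul' := fun b c => by
        rw [← LinearMap.toMatrix'_comp]; congr 1; ext v; simp [mul_assoc] }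
  have hρ : ∀ (b : Kˣ) v, ρ b *ᵥ v = e.symm ((b : K) * e v) := fun b v => by
    simp [ρ, LinearMap.toMatrix'_mulVec]
  let T : Subgroup Kˣ := nm.ker
  let φ : T →* O R := ((ρ.comp T.subtype).toHomUnits).codRestrict _ fun b w _ => by
    show R (ρ b *ᵥ w) = R w
    have hk : ((b : Kˣ) : K) * σ ((b : Kˣ) : K) = 1 := by
      have := congrArg Units.val (MonoidHom.mem_ker.1 b.2)
      simpa [nm, hσ, pow_succ'] using this
    rw [hRe, hRe, hρ, LinearEquiv.apply_symm_apply, map_mul σ, mul_mul_mul_comm, hk, one_mul]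
  have hfree : ∀ (b : T) v, v ≠ 0 → app (φ b) v = v → b = 1 := fun b v hv h => by
    have h' : ρ b *ᵥ v = v := h
    rw [hρ, LinearEquiv.symm_apply_eq] at h'
    exact Subtype.ext (Units.ext (mul_right_cancel₀ (fun h0 => hv (e.map_eq_zero_iff.1 h0))
      (by rw [h', OneMemClass.coe_one, Units.val_one, one_mul])))
  obtain ⟨g, hg⟩ := IsCyclic.exists_generator (α := T)
  have hgo : orderOf g = N + 1 := by rw [orderOf_eq_card_of_forall_mem_zpowers hg, hker]
  have : Nontrivial (Fin (2 * a) → F) := by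
    have : Nonempty (Fin (2 * a)) := ⟨⟨0, by omega⟩⟩
    infer_instance
  obtain ⟨v₀, hv₀⟩ := exists_ne (0 : Fin (2 * a) → F)
  have hinj : Function.Injective φ := (injective_iff_map_eq_one φ).2 fun b hb =>
    hfree b v₀ hv₀ (by rw [hb, app_one])
  refine ⟨R, φ g, hRnd, htype, by rw [orderOf_injective φ hinj, hgo], ?_⟩
  rw [chiPair_of_free hRnd h2 hd (by simp) (φ g) hNodd.add_one (by omega) (fun v hv j => ?_) hshell,
    htodd.neg_one_pow]
  rw [← map_pow, ← hgo, orderOf_dvd_iff_pow_eq_one]
  exact ⟨hfree _ v hv, fun h => by rw [h, map_one, app_one]⟩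

end CfsgLib.Recog.OmegaNine
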