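import Cfsg.Agent.Lib.Recog.OmegaNine.Transfer
import Cfsg.Agent.Lib.Recog.OmegaNine.Tori
import Cfsg.Agent.Lib.Recog.OmegaNine.Roots
import Cfsg.Agent.Lib.Recog.SelfReciprocalRoots

/-!
Orders of fixed-point-free isometries with trivial characters of the eight dimensional space of
square discriminant.
-/

set_option autoImplicit false
set_option linter.unusedSectionVars false

namespace CfsgLib.Recog.OmegaNine

open Matrix QuadraticMap CfsgLib.Orth CfsgLib.Recog.SelfReciprocalRoots

variable {F : Type*} [Field F] [Fintype F] [DecidableEq F]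
variable {ι : Type} [Fintype ι] [DecidableEq ι] {Q : QuadraticForm F (ι → F)}

/-- The orders of the affine group used in the comparison. -/
def IsTarget (q p m : ℕ) : Prop :=
  m = (q ^ 4 - 1) / 2 ∨ m = (q ^ 3 + 1) * (q - 1) / 2 ∨ m = (q ^ 3 - 1) * (q + 1) / 2 ∨
    m = p * ((q ^ 2 + 1) * (q - 1) / 2) ∨ m = p * ((q ^ 2 + 1) * (q + 1) / 2) ∨
    m = p * (q ^ 2 - 1) ∨ (p = 3 ∧ m = 9 * ((q ^ 2 - 1) / 2)) ∨ (p = 5 ∧ m = 50)

/-- The negative of the identity. -/
noncomputable def negE (Q : QuadraticForm F (ι → F)) : O Q :=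
  mkO (-LinearMap.id) (-LinearMap.id) (LinearMap.ext fun x => by simp)
    (LinearMap.ext fun x => by simp) (fun x => by simp)

@[simp] theorem app_negE (x : ι → F) : app (negE Q) x = -x := by
  rw [negE, app_mkO]; rfl

theorem negE_comm (g : O Q) : Commute (negE Q) g := ext_app fun x => by simp

theorem negE_sq : negE Q * negE Q = 1 := ext_app fun x => by simp

theorem Sum.J_negE {κ μ : Type} [Fintype κ] [DecidableEq κ] [Fintype μ] [DecidableEq μ]
    {Qκ : QuadraticForm F (κ → F)} {Qμ : QuadraticForm F (μ → F)} (S : Sum Qκ Qμ Q) :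
    S.J (negE Qκ, negE Qμ) = negE Q := ext_app fun v => by
  obtain ⟨⟨x, y⟩, rfl⟩ := S.E.surjective v
  rw [S.app_J, app_negE, app_negE, app_negE, ← map_neg]
  rfl

theorem negE_pow_odd {n : ℕ} (hn : Odd n) : negE Q ^ n = negE Q := by
  obtain ⟨i, rfl⟩ := hn
  rw [pow_succ, pow_mul, pow_two, negE_sq, one_pow, one_mul]

theorem negE_pow_even {n : ℕ} (hn : Even n) : negE Q ^ n = 1 := by
  obtain ⟨i, rfl⟩ := hn
  rw [← two_mul, pow_mul, pow_two, negE_sq, one_pow]

/-- A unipotent isometry of even dimension has no regular Jordan block. -/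
theorem pow_eq_one_of_even {p : ℕ} [Fact p.Prime] [CharP F p] (hQ : Q.polarBilin.Nondegenerate)
    (h2 : (2 : F) ≠ 0) (hι : Even (Fintype.card ι)) {b : O Q} {e t : ℕ} (hb : b ^ p ^ e = 1)
    (ht : Fintype.card ι ≤ p ^ t + 1) : b ^ p ^ t = 1 := by
  set k := Fintype.card ι with hk
  have hk' : Module.finrank F (ι → F) = k := Module.finrank_fintype_fun_eq_card F
  set N : Module.End F (ι → F) := app b - 1 with hN
  have hnil : IsNilpotent N := isNilpotent_app_sub_one hb
  have hfin : N ^ p ^ t = 0 → b ^ p ^ t = 1 := fun h => ext_app fun x => by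
    rw [hN, sub_one_pow_app, sub_eq_zero] at h
    rw [h, app_one]
    rfl
  rcases Nat.eq_zero_or_pos k with h0 | hpos
  · exact hfin (pow_eq_zero_of_finrank_le hnil (by omega))
  refine hfin (pow_eq_zero_of_le (show k - 1 ≤ p ^ t by omega) ?_)
  have hkey : N ^ k = 0 := pow_eq_zero_of_finrank_le hnil (by omega)
  have happ : ∀ x, N x = app b x - x := fun x => rfl
  -- the adjoint
  have hadj : ∀ m x y, polar Q ((N ^ m) x) y =
      (-1) ^ m * polar Q x ((N ^ m) (app (b⁻¹ ^ m) y)) := by
    intro m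
    induction m with
    | zero => intro x y; simp
    | succ m ih =>
      intro x y
      have h1 : ∀ u w, polar Q (N u) w = -polar Q u (N (app b⁻¹ w)) := fun u w => by
        rw [happ, happ, app_app_inv, sub_eq_add_neg, sub_eq_add_neg, polar_add_left, polar_neg_left,
          polar_add_right, polar_neg_right]
        conv_lhs => arg 1; rw [← app_app_inv b w, polar_app]
        ring
      rw [pow_succ' N, Module.End.mul_apply, h1, ih]
      have hc : ∀ w, app (b⁻¹ ^ m) (N w) = N (app (b⁻¹ ^ m) w) := fun w => by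
        rw [happ, happ, map_sub, ← app_mul, ← app_mul,
          ((Commute.refl b).inv_left.pow_left m).eq]
      rw [hc, ← app_mul, ← pow_succ, ← Module.End.mul_apply, ← pow_succ, pow_succ' N,
        pow_succ (-1 : F)]
      ring
  have hbfix : ∀ w, (N ^ (k - 1)) (app b w) = (N ^ (k - 1)) w := fun w => by
    have h1 : app b w = w + N w := by rw [happ]; abel
    rw [h1, map_add, ← Module.End.mul_apply, ← pow_succ, show k - 1 + 1 = k by omega, hkey,
      LinearMap.zero_apply, add_zero]
  have hbinv : ∀ j w, (N ^ (k - 1)) (app (b⁻¹ ^ j) w) = (N ^ (k - 1)) w := by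
    intro j
    induction j with
    | zero => intro w; simp
    | succ j ih =>
      intro w
      rw [pow_succ, app_mul, ih, ← hbfix (app b⁻¹ w), app_app_inv]
  -- the form is alternating
  have halt : ∀ x, polar Q x ((N ^ (k - 1)) x) = 0 := fun x => by
    have h := hadj (k - 1) x x
    rw [hbinv, (Nat.Even.sub_odd hpos hι odd_one).neg_one_pow, neg_one_mul, polar_comm] at h
    exact (mul_eq_zero.1 (show (2 : F) * polar Q x ((N ^ (k - 1)) x) = 0 by
      linear_combination h)).resolve_left h2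
  by_contra hne
  obtain ⟨y, hy⟩ : ∃ y, (N ^ (k - 1)) y ≠ 0 := by
    by_contra h
    push Not at h
    exact hne (LinearMap.ext h)
  set z := (N ^ (k - 1)) y
  have hr : Module.finrank F (LinearMap.range (N ^ (k - 1))) = 1 := by
    refine le_antisymm (by have := finrank_range_pow_le hnil (k - 1); omega) ?_
    rw [Nat.one_le_iff_ne_zero]
    intro h
    rw [Submodule.finrank_eq_zero, LinearMap.range_eq_bot] at h
    exact hy (by rw [show z = (N ^ (k - 1)) y from rfl, h]; rfl)
  have hspan : ∀ x, ∃ c : F, (N ^ (k - 1)) x = c • z := fun x => by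
    obtain ⟨c, hc⟩ := (finrank_eq_one_iff_of_nonzero' (⟨z, y, rfl⟩ : LinearMap.range (N ^ (k - 1)))
      (by simpa [Subtype.ext_iff] using hy)).1 hr ⟨_, x, rfl⟩
    exact ⟨c, (congrArg Subtype.val hc).symm⟩
  refine hy (hQ.2 z fun x => ?_)
  rw [polarBilin_apply_apply]
  obtain ⟨c, hc⟩ := hspan x
  by_cases hc0 : c = 0
  · have h := halt (x + y)
    rw [map_add, hc, hc0, zero_smul, zero_add, polar_add_left, halt y, add_zero] at h
    exact h
  · have h := halt x
    rw [hc, polar_smul_right, smul_eq_mul, mul_eq_zero] at h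
    exact h.resolve_left hc0

section Eigen

variable (g : O Q)

theorem mat_negE : mat (negE Q) = -1 := Matrix.ext_of_mulVec_single fun i => by
  rw [← app_apply, app_negE, Matrix.neg_mulVec, Matrix.one_mulVec]

theorem eigen_ne (g : O Q) (hfix : ∀ x, app g x = x → x = 0) :
    ∀ x ∈ eigen (mat g), x ≠ 1 := by
  rintro x hx rfl
  have h := Polynomial.isRoot_of_mem_roots hx
  rw [Polynomial.IsRoot, ← map_one (algebraMap F (AlgebraicClosure F)), Polynomial.eval_map,
    Polynomial.eval₂_at_apply, map_eq_zero, Matrix.eval_charpoly, map_one] at h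
  obtain ⟨v, hv, hv0⟩ := Matrix.exists_mulVec_eq_zero_iff.2 h
  rw [Matrix.sub_mulVec, Matrix.one_mulVec, sub_eq_zero] at hv0
  exact hv (hfix v hv0.symm)

theorem eigen_ne_neg (g : O Q) (hfix : ∀ x, app g x = -x → x = 0) :
    ∀ x ∈ eigen (mat g), x ≠ -1 := by
  rintro x hx rfl
  have h := Polynomial.isRoot_of_mem_roots hx
  rw [Polynomial.IsRoot, ← map_one (algebraMap F (AlgebraicClosure F)), ← map_neg,
    Polynomial.eval_map, Polynomial.eval₂_at_apply, map_eq_zero, Matrix.eval_charpoly, map_neg,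
    map_one] at h
  obtain ⟨v, hv, hv0⟩ := Matrix.exists_mulVec_eq_zero_iff.2 h
  rw [Matrix.sub_mulVec, Matrix.neg_mulVec, Matrix.one_mulVec, sub_eq_zero] at hv0
  exact hv (hfix v hv0.symm)

theorem symm_eigen (hQ : Q.polarBilin.Nondegenerate) (h2 : (2 : F) ≠ 0)
    (h8 : Fintype.card ι ≤ 8) (g : O Q) (hfix : ∀ x, app g x = x → x = 0)
    (hneg : ∀ x, app g x = -x → x = 0) :
    Symm (AlgebraicClosure F) (Fintype.card F) (eigen (mat g)) where
  hq := Fintype.one_lt_card
  hodd := odd_card h2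
  inj := (FiniteField.frobeniusAlgHom F (AlgebraicClosure F)).toRingHom.injective
  card := by rw [card_eigen]; exact h8
  ne_zero x hx h := zero_notMem_eigen (isUnit_of_preserves
    (Ne.isUnit (CfsgLib.QuadFin.gram_det_ne_zero Q hQ)) (mat_preserves g)) (h ▸ hx)
  ne_one := eigen_ne g hfix
  ne_neg_one := eigen_ne_neg g hneg
  frob := map_frobenius _
  inv := map_inv (isUnit_of_preserves (Ne.isUnit (CfsgLib.QuadFin.gram_det_ne_zero Q hQ))
    (mat_preserves g)) (charpoly_inv_of_preserves (Ne.isUnit (CfsgLib.QuadFin.gram_det_ne_zero Q hQ))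
    (mat_preserves g))

open Polynomial in
open scoped Classical in
/-- Orders from eigenvalues and multiplicities. -/
theorem pow_eq_one_of_eigen {p : ℕ} [Fact p.Prime] [CharP F p] (g : O Q) {M t : ℕ} (hM : 0 < M)
    (h : ∀ x ∈ eigen (mat g), x ^ M = 1 ∧ (eigen (mat g)).count x ≤ p ^ t) :
    g ^ (p ^ t * M) = 1 := by
  classical
  set φ := algebraMap F (AlgebraicClosure F)
  set A := mat g with hA
  have hdvd : A.charpoly ∣ (X ^ M - 1) ^ p ^ t := by
    rw [← Polynomial.map_dvd_map φ φ.injective (Matrix.charpoly_monic A),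
      (IsAlgClosed.splits (A.charpoly.map φ)).eq_prod_roots_of_monic
        ((Matrix.charpoly_monic A).map φ)]
    have hne : (((X : F[X]) ^ M - 1) ^ p ^ t).map φ ≠ 0 := by
      simpa using pow_ne_zero (p ^ t) (X_pow_sub_C_ne_zero hM (1 : AlgebraicClosure F))
    rw [Multiset.prod_X_sub_C_dvd_iff_le_roots hne, Multiset.le_iff_count]
    intro x
    by_cases hx : x ∈ eigen A
    · obtain ⟨hxM, hcnt⟩ := h x hx
      rw [Polynomial.map_pow, roots_pow, Multiset.count_nsmul]
      refine hcnt.trans (Nat.le_mul_of_pos_right _ (Multiset.count_pos.2 ?_))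
      rw [mem_roots', IsRoot]
      refine ⟨fun h0 => hne (by
        rw [Polynomial.map_pow, h0, zero_pow (pow_ne_zero _ (Fact.out (p := p.Prime)).ne_zero)]), ?_⟩
      simp [hxM]
    · exact (Multiset.count_eq_zero.2 hx).trans_le (Nat.zero_le _)
  obtain ⟨r, hr⟩ := hdvd
  have h1 := congrArg (aeval A) hr
  rw [map_mul, Matrix.aeval_self_charpoly, zero_mul, sub_pow_char_pow, one_pow, ← pow_mul] at h1
  refine Subtype.ext (Units.ext ?_)
  show mat (g ^ (p ^ t * M)) = 1
  rw [mat_pow, Nat.mul_comm]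
  simpa [sub_eq_zero] using h1

open Polynomial in
/-- Simple eigenvalue orders give free action. -/
theorem free_of_eigen (g : O Q) {o : ℕ} (hgo : g ^ o = 1)
    (h : ∀ x ∈ eigen (mat g), ∀ j : ℕ, x ^ j = 1 ↔ o ∣ j) (v : ι → F) (hv : v ≠ 0) (j : ℕ) :
    app (g ^ j) v = v ↔ o ∣ j := by
  refine ⟨fun hj => ?_, fun hj => by rw [orderOf_dvd_iff_pow_eq_one.1
    ((orderOf_dvd_of_pow_eq_one hgo).trans hj), app_one]⟩
  by_contra hno
  set φ := algebraMap F (AlgebraicClosure F)
  have hco : IsCoprime (mat g).charpoly (X ^ j - 1) := by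
    rw [Polynomial.isCoprime_iff_aeval_ne_zero_of_isAlgClosed (k := F) (K := AlgebraicClosure F)]
    intro x
    by_contra hx
    push Not at hx
    obtain ⟨h1, h2⟩ := hx
    have hmem : x ∈ eigen (mat g) := by
      rw [eigen, mem_roots ((Matrix.charpoly_monic _).map φ).ne_zero, IsRoot, eval_map, ← aeval_def]
      exact h1
    exact hno ((h x hmem j).1 (by simpa [sub_eq_zero] using h2))
  obtain ⟨u, w, huw⟩ := hco
  have h1 := congrArg (fun P : F[X] => (aeval (mat g) P) *ᵥ v) huw
  simp only [map_add, map_mul, map_sub, map_pow, map_one, aeval_X, Matrix.aeval_self_charpoly,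
    mul_zero, zero_add, ← Matrix.mulVec_mulVec, Matrix.sub_mulVec, Matrix.one_mulVec] at h1
  rw [show mat g ^ j *ᵥ v = v by rw [← mat_pow]; exact hj, sub_self, Matrix.mulVec_zero] at h1
  exact hv h1.symm

end Eigen

theorem two_mul_dvd_facts {q : ℕ} (hq : Odd q) :
    2 ∣ (q ^ 4 - 1) / 2 ∧ 2 ∣ (q ^ 3 + 1) * (q - 1) / 2 ∧ 2 ∣ (q ^ 3 - 1) * (q + 1) / 2 ∧
      2 ∣ (q ^ 2 + 1) * (q - 1) / 2 ∧ 2 ∣ (q ^ 2 + 1) * (q + 1) / 2 ∧ 2 ∣ (q ^ 2 - 1) / 2 ∧
      q - 1 ∣ (q ^ 2 - 1) / 2 ∧ q + 1 ∣ (q ^ 2 - 1) / 2 := by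
  obtain ⟨s, rfl⟩ := hq
  have e2 : (2 * s + 1) ^ 2 - 1 = 2 * (2 * s * (s + 1)) := Nat.sub_eq_of_eq_add (by ring)
  have e4 : (2 * s + 1) ^ 4 - 1 = 2 * (4 * s * (s + 1) * (2 * s * s + 2 * s + 1)) :=
    Nat.sub_eq_of_eq_add (by ring)
  have em : 2 * s + 1 - 1 = 2 * s := by omega
  have e3 : (2 * s + 1) ^ 3 - 1 = 2 * s * (4 * s * s + 6 * s + 3) :=
    Nat.sub_eq_of_eq_add (by ring)
  have hd : ∀ A, 2 * A / 2 = A := fun A => Nat.mul_div_cancel_left A (by norm_num)
  refine ⟨?_, ?_, ?_, ?_, ?_, ?_, ?_, ?_⟩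
  · rw [e4, hd]; exact ⟨2 * s * (s + 1) * (2 * s * s + 2 * s + 1), by ring⟩
  · rw [em, show ((2 * s + 1) ^ 3 + 1) * (2 * s) = 2 * (((2 * s + 1) ^ 3 + 1) * s) by ring, hd]
    exact ⟨(4 * s * s * s + 6 * s * s + 3 * s + 1) * s, by ring⟩
  · rw [e3, show 2 * s * (4 * s * s + 6 * s + 3) * (2 * s + 1 + 1) =
      2 * (2 * (s * (4 * s * s + 6 * s + 3) * (s + 1))) by ring, hd]
    exact dvd_mul_right 2 _
  · rw [em, show ((2 * s + 1) ^ 2 + 1) * (2 * s) = 2 * (((2 * s + 1) ^ 2 + 1) * s) by ring, hd]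
    exact ⟨(2 * s * s + 2 * s + 1) * s, by ring⟩
  · rw [show ((2 * s + 1) ^ 2 + 1) * (2 * s + 1 + 1) = 2 * (((2 * s + 1) ^ 2 + 1) * (s + 1)) by ring,
      hd]
    exact ⟨(2 * s * s + 2 * s + 1) * (s + 1), by ring⟩
  · rw [e2, hd]; exact ⟨s * (s + 1), by ring⟩
  · rw [e2, hd, em]; exact dvd_mul_right _ _
  · rw [e2, hd]; exact ⟨s, by ring⟩

variable {p : ℕ} [hp : Fact p.Prime] [CharP F p]

open scoped Classical in
set_option maxHeartbeats 1000000 in
/-- The orders of the other type. -/
theorem exists_target (h2 : (2 : F) ≠ 0) {δ : F} (hδ : ¬ IsSquare δ)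
    (Qa : QuadraticForm F (Fin 8 → F)) (hQ : Qa.polarBilin.Nondegenerate)
    (hsq : IsSquare (CfsgLib.QuadFin.gram ⇑Qa).det) (a : O Qa) {N : ℕ}
    (ha : chiPair Qa δ a = 1) (hfree : ∀ x, app (a ^ N) x = x → x = 0) :
    ∃ m, IsTarget (Fintype.card F) p m ∧ orderOf a ∣ m := by
  set q := Fintype.card F with hq
  have hqo : Odd q := odd_card h2
  have hq2 : 2 ≤ q := Fintype.one_lt_card
  obtain ⟨a1', a2', a3', a4', -, -, b1', b2', b3', c1', c2', c3', d1, d2, d3, d4⟩ := arith hqo hq2
  obtain ⟨e1, e2, e3, e4, e5, e6, e7, e8⟩ := two_mul_dvd_facts hqo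
  have hp3 : 3 ≤ p := by
    have := hp.out.two_le
    obtain ⟨i, hi⟩ := odd_p (F := F) (p := p) h2
    omega
  -- split off the eigenvalue `-1`
  obtain ⟨e, M₀, hM₀, hnM⟩ := Nat.exists_eq_pow_mul_and_not_dvd (orderOf_pos a).ne' p hp.out.ne_one
  have hpo := (odd_p (F := F) (p := p) h2).pow (n := e)
  have hM2 : ((2 * M₀ : ℕ) : F) ≠ 0 := by
    rw [Nat.cast_mul, Nat.cast_two]
    exact mul_ne_zero h2 (by rwa [Ne, CharP.cast_eq_zero_iff F p])
  obtain ⟨d, k, Qd, Qb, S, a', b', hJ, hafree, hb⟩ := exists_split hQ (negE Qa * a) hM2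
    (N := p ^ e) (by
      rw [← pow_mul, (negE_comm a).mul_pow, negE_pow_even ⟨p ^ e * M₀, by ring⟩, one_mul,
        show p ^ e * (2 * M₀) = orderOf a * 2 by rw [hnM]; ring, pow_mul, pow_orderOf_eq_one, one_pow])
  set a1 := negE Qd * a' with ha1
  set c1 := negE Qb * b' with hc1
  have hJ1 : S.J (a1, c1) = a := by
    rw [ha1, hc1, ← Prod.mk_mul_mk, map_mul, S.J_negE, hJ, ← mul_assoc, negE_sq, one_mul]
  have hQd := S.nondeg_left hQ
  have hQb := S.nondeg_right hQ
  have ha'1 : ∀ x, app a' x = x → x = 0 := fun x hx => hafree x (app_pow_fixed hx _)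
  have ha11 : ∀ x, app a1 x = x → x = 0 := fun x hx => by
    have h1 : app a (S.E (x, 0)) = S.E (x, 0) := by rw [← hJ1, S.app_J, hx, map_zero]
    exact congrArg Prod.fst (S.E.map_eq_zero_iff.1 (hfree _ (app_pow_fixed h1 N)))
  have ha12 : ∀ x, app a1 x = -x → x = 0 := fun x hx => by
    refine ha'1 x ?_
    rw [ha1, app_mul, app_negE, neg_inj] at hx
    exact hx
  have hcard := S.card_eq
  simp only [Fintype.card_fin] at hcard
  have hdev : Even d := by
    have h1 := det_of_fixed_free hQd a1 ha11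
    have h3 := det_of_fixed_free hQd a' ha'1
    have h4 := det_of_fixed_free hQd (negE Qd) fun x hx => by
      rw [app_negE] at hx
      exact (smul_eq_zero.1 (show (2 : F) • x = 0 by
        rw [two_smul]; nth_rewrite 1 [← hx]; exact neg_add_cancel x)).resolve_left h2
    rw [ha1, map_mul, Units.val_mul, h4, h3, Fintype.card_fin] at h1
    by_contra hd
    rw [(Nat.not_even_iff_odd.1 hd).neg_one_pow] at h1
    exact neg_one_ne h2 (by linear_combination -h1)
  have hkev : Even k := by
    obtain ⟨i, hi⟩ := hdev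
    exact ⟨4 - i, by omega⟩
  -- combining the two parts
  have combine : ∀ m, a1 ^ m = 1 → (k = 0 ∨ ∃ t, Even m ∧ p ^ t ∣ m ∧ k ≤ p ^ t + 1) →
      orderOf a ∣ m := by
    intro m h1 hk
    refine orderOf_dvd_of_pow_eq_one ?_
    rw [← hJ1, ← map_pow, Prod.pow_mk, h1, show c1 ^ m = 1 from ?_]
    · exact map_one S.J
    rcases hk with hk | ⟨t, hev, ⟨s, rfl⟩, hkt⟩
    · subst hk
      exact ext_app fun x => Subsingleton.elim _ _
    · rw [hc1, (negE_comm b').mul_pow, negE_pow_even hev, one_mul, pow_mul,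
        pow_eq_one_of_even hQb h2 (by rwa [Fintype.card_fin]) hb (by rwa [Fintype.card_fin]),
        one_pow]
  have hsym : Symm (AlgebraicClosure F) q (eigen (mat a1)) :=
    symm_eigen hQd h2 (by rw [Fintype.card_fin]; omega) a1 ha11 ha12
  have hcR : (eigen (mat a1)).card = d := by rw [card_eigen, Fintype.card_fin]
  set R := eigen (mat a1) with hR
  have hroot : ∀ {M t : ℕ}, 0 < M → (∀ x ∈ R, x ^ M = 1 ∧ R.count x ≤ p ^ t) →
      a1 ^ (p ^ t * M) = 1 := fun hM h => pow_eq_one_of_eigen a1 hM h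
  have hq21 : 0 < q ^ 2 - 1 := by
    have : 2 ^ 2 ≤ q ^ 2 := Nat.pow_le_pow_left hq2 2
    omega
  have hhalf : 0 < (q ^ 2 - 1) / 2 := by
    have : 2 ^ 2 ≤ q ^ 2 := Nat.pow_le_pow_left hq2 2
    omega
  have hev2 : Even (q ^ 2 - 1) := Nat.Odd.sub_odd hqo.pow odd_one
  have hrest : d ≤ 2 → ∃ m, IsTarget q p m ∧ orderOf a ∣ m := by
    intro hd
    obtain ⟨M, hM, hMR⟩ := classify_two hsym (by omega)
    have hMd : M ∣ (q ^ 2 - 1) / 2 := by
      simp only [List.mem_cons, List.not_mem_nil, or_false] at hM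
      rcases hM with rfl | rfl
      exacts [e7, e8]
    have hMpos : 0 < M := Nat.pos_of_ne_zero fun h => by
      rw [h, zero_dvd_iff] at hMd; omega
    have hM' : a1 ^ M = 1 := by
      have := hroot (t := 0) hMpos fun x hx => ⟨(hMR x hx).1, by simpa using (hMR x hx).2⟩
      simpa using this
    have hdvd : ∀ u, M ∣ u → a1 ^ u = 1 := fun u hu => by
      obtain ⟨w, rfl⟩ := hu; rw [pow_mul, hM', one_pow]
    by_cases hp7 : k ≤ p + 1
    · refine ⟨p * (q ^ 2 - 1), by simp [IsTarget], combine _ (hdvd _ ?_)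
        (Or.inr ⟨1, hev2.mul_left p, by rw [pow_one]; exact dvd_mul_right _ _, by rwa [pow_one]⟩)⟩
      exact dvd_mul_of_dvd_right (hMd.trans (Nat.div_dvd_of_dvd (even_iff_two_dvd.1 hev2))) p
    rcases (show p = 3 ∨ p = 5 by
      rcases (show p = 3 ∨ p = 4 ∨ p = 5 ∨ p = 6 by omega) with h | h | h | h
      · exact Or.inl h
      · exact absurd (h ▸ hp.out) (by decide)
      · exact Or.inr h
      · exact absurd (h ▸ hp.out) (by decide)) with h | h
    · refine ⟨9 * ((q ^ 2 - 1) / 2), by simp [IsTarget, h], combine _ (hdvd _ (hMd.mul_left 9))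
        (Or.inr ⟨2, (even_iff_two_dvd.2 e6).mul_left 9, ?_, ?_⟩)⟩
      · rw [h]; exact dvd_mul_right _ _
      · rw [h]; omega
    · refine ⟨50, by simp [IsTarget, h], combine _ ?_ (Or.inr ⟨2, by decide, by rw [h]; norm_num,
        by rw [h]; omega⟩)⟩
      obtain rfl : d = 0 := by
        obtain ⟨i, hi⟩ := hdev
        omega
      exact ext_app fun x => Subsingleton.elim _ _
  rcases (show d ≤ 2 ∨ d = 4 ∨ 6 ≤ d by obtain ⟨i, hi⟩ := hdev; omega) with hd | hd | hd
  · exact hrest hd
  · -- dimension four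
    obtain ⟨M, hM, hMR⟩ := classify_four hsym (by omega)
    simp only [List.mem_cons, List.not_mem_nil, or_false] at hM
    have hMp : a1 ^ (p * M) = 1 := by
      have := hroot (t := 1) (M := M) (by rcases hM with rfl | rfl <;> omega) fun x hx =>
        ⟨(hMR x hx).1, (hMR x hx).2.trans (by rw [pow_one]; omega)⟩
      simpa using this
    rcases hM with rfl | rfl
    · refine ⟨p * ((q ^ 2 + 1) * (q - 1) / 2), by simp [IsTarget], combine _ ?_
        (Or.inr ⟨1, (even_iff_two_dvd.2 e4).mul_left p, by rw [pow_one]; exact dvd_mul_right _ _,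
          by rw [pow_one]; omega⟩)⟩
      exact pow_dvd hMp (mul_dvd_mul_left p d1)
    · exact ⟨p * (q ^ 2 - 1), by simp [IsTarget], combine _ hMp
        (Or.inr ⟨1, hev2.mul_left p, by rw [pow_one]; exact dvd_mul_right _ _, by rw [pow_one]; omega⟩)⟩
  · -- dimension six or eight
    have hk : ∀ m, Even m → k = 0 ∨ ∃ t, Even m ∧ p ^ t ∣ m ∧ k ≤ p ^ t + 1 := fun m hm =>
      Or.inr ⟨0, hm, by simp, by simp; omega⟩
    rcases classify_eight hsym with ⟨h8, o, ho, hoR⟩ | ⟨M, hM, hMR⟩ | ⟨M, hM, hMR⟩ | hD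
    · -- one orbit of length eight
      obtain rfl : d = 8 := by omega
      obtain rfl : k = 0 := by omega
      have hq4 : 2 ^ 4 ≤ q ^ 4 := Nat.pow_le_pow_left hq2 4
      have ho0 : o ≠ 0 := by
        rintro rfl
        rcases ho with h | h <;> rw [zero_dvd_iff] at h <;> omega
      have hcop : o.Coprime q := by
        rcases ho with h | h
        · refine Nat.Coprime.coprime_dvd_left h ?_
          rw [show q ^ 4 + 1 = 1 + q ^ 3 * q by ring, Nat.coprime_add_mul_right_left]
          exact Nat.coprime_one_left q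
        · refine Nat.Coprime.coprime_dvd_left h (Nat.coprime_of_dvd' fun r hr h1 h2' => ?_)
          rw [← Nat.dvd_add_right h1, Nat.sub_add_cancel (by omega)]
          exact dvd_pow h2' (by norm_num)
      have hao : a1 ^ o = 1 := by
        have := hroot (t := 0) (Nat.pos_of_ne_zero ho0) fun x hx =>
          ⟨((hoR x hx).2 o).2 dvd_rfl, by simpa using (hoR x hx).1⟩
        simpa using this
      have hfr := free_of_eigen a1 hao fun x hx => (hoR x hx).2
      have ho1 : o ≠ 1 := by
        rintro rfl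
        obtain ⟨x, hx⟩ := Multiset.card_pos_iff_exists_mem.1 (show 0 < R.card by omega)
        exact hsym.ne_one x hx (by simpa using ((hoR x hx).2 1).2 dvd_rfl)
      refine ⟨(q ^ 4 - 1) / 2, by simp [IsTarget], combine _ ?_ (Or.inl rfl)⟩
      refine pow_dvd hao ?_
      -- the shell
      have hQb1 : (CfsgLib.QuadFin.gram ⇑Qb).det = 1 := Matrix.det_isEmpty
      have hcard1 : Nat.card (Shell Qd 1) = (q ^ 4 - 1) * q ^ 3 := by
        have hP : (plusQ 4 F).polarBilin.Nondegenerate := plusQ_nondegenerate 4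
        have hR0 : (0 : QuadraticForm F (Fin 0 → F)).polarBilin.Nondegenerate :=
          nondeg_of_det (by rw [Matrix.det_isEmpty]; exact one_ne_zero)
        obtain ⟨T⟩ := exists_sum h2 (plusQ 4 F) (0 : QuadraticForm F (Fin 0 → F)) Qa hP hR0 hQ
          (by simp) (by
            rw [det_plusQ,
              Matrix.det_isEmpty (A := CfsgLib.QuadFin.gram ⇑(0 : QuadraticForm F (Fin 0 → F)))]
            norm_num; exact hsq)
        have e1 : ∀ {κ : Type} [Fintype κ] [DecidableEq κ] {Q1 : QuadraticForm F (κ → F)}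
            {Q0 : QuadraticForm F (Fin 0 → F)} (U : Sum Q1 Q0 Qa),
            Nat.card (Shell Q1 1) = Nat.card (Shell Qa 1) := by
          intro κ _ _ Q1 Q0 U
          refine Nat.card_congr
            { toFun := fun x => ⟨U.E (x.1, 0), by rw [U.map_Q, map_zero, add_zero]; exact x.2⟩
              invFun := fun v => ⟨(U.E.symm v.1).1, by
                have h := U.map_Q (U.E.symm v.1).1 (U.E.symm v.1).2
                rw [Prod.mk.eta, LinearEquiv.apply_symm_apply, v.2,
                  Subsingleton.elim (U.E.symm v.1).2 0, map_zero, add_zero] at h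
                exact h.symm⟩
              left_inv := fun x => Subtype.ext (by simp)
              right_inv := fun v => Subtype.ext (by
                show U.E ((U.E.symm v.1).1, 0) = v.1
                rw [← Subsingleton.elim (U.E.symm v.1).2 0, Prod.mk.eta,
                  LinearEquiv.apply_symm_apply]) }
        rw [e1 S, ← e1 T, card_shell_plus (by norm_num)]
      have hodvd : o ∣ q ^ 4 - 1 := by
        have hne : ∀ x : Shell Qd 1, (x : Fin 8 → F) ≠ 0 := fun x h => by
          have := x.2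
          rw [h, map_zero] at this
          exact zero_ne_one this
        classical
        have h := CfsgLib.SpecOrth.dvd_card_of_free (σ := shellPerm Qd 1 a1) ho1 fun x j => by
          rw [← map_pow, ← hfr _ (hne x) j, Subtype.ext_iff]
          rfl
        rw [← Nat.card_eq_fintype_card, hcard1] at h
        exact (Nat.Coprime.pow_right 3 hcop).dvd_of_dvd_mul_right h
      obtain ⟨h', hh'⟩ : 2 ∣ q ^ 4 - 1 := even_iff_two_dvd.1 (Nat.Odd.sub_odd hqo.pow odd_one)
      rw [hh', Nat.mul_div_cancel_left _ (by norm_num : 0 < 2)]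
      rcases Nat.even_or_odd o with hoe | hoo
      · obtain ⟨t, ht⟩ := hodvd
        have hchi : chiPair Qd δ a1 = 1 := by
          have h := ha
          rw [← hJ1, S.chiPair_J h2 hδ hQ,
            show c1 = 1 from ext_app fun x => Subsingleton.elim _ _, map_one, mul_one] at h
          exact h
        rw [chiPair_of_free hQd h2 hδ (by decide) a1 hoe ho0 hfr (t := t * q ^ 3)
          (by rw [hcard1, ht]; ring), Prod.mk_eq_one] at hchi
        have ht2 : Even (t * q ^ 3) := by
          by_contra hto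
          rw [(Nat.not_even_iff_odd.1 hto).neg_one_pow] at hchi
          exact absurd hchi.1 (by decide)
        obtain ⟨t', rfl⟩ : 2 ∣ t := even_iff_two_dvd.1 ((Nat.even_mul.1 ht2).resolve_right
          (Nat.not_even_iff_odd.2 hqo.pow))
        exact ⟨t', by rw [hh'] at ht; linarith⟩
      · exact (Nat.Coprime.dvd_of_dvd_mul_left (Nat.coprime_two_right.2 hoo) (hh' ▸ hodvd))
    · -- simple eigenvalues
      simp only [List.mem_cons, List.not_mem_nil, or_false] at hM
      have h3 : 0 < q ^ 3 - 1 := by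
        have : 2 ^ 3 ≤ q ^ 3 := Nat.pow_le_pow_left hq2 3
        omega
      have hM' : IsTarget q p M ∧ Even M ∧ 0 < M := by
        rcases hM with rfl | rfl | rfl
        · refine ⟨by simp [IsTarget], even_iff_two_dvd.2 e2, Nat.div_pos ?_ (by norm_num)⟩
          have h4 : 0 < q - 1 := by omega
          have : 2 ≤ q ^ 3 + 1 := by omega
          calc 2 ≤ q ^ 3 + 1 := this
            _ ≤ (q ^ 3 + 1) * (q - 1) := Nat.le_mul_of_pos_right _ h4
        · exact ⟨by simp [IsTarget], even_iff_two_dvd.2 e3, Nat.div_pos (by nlinarith) (by norm_num)⟩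
        · refine ⟨by simp [IsTarget], even_iff_two_dvd.2 e1, Nat.div_pos ?_ (by norm_num)⟩
          have : 2 ^ 4 ≤ q ^ 4 := Nat.pow_le_pow_left hq2 4
          omega
      refine ⟨M, hM'.1, combine _ ?_ (hk M hM'.2.1)⟩
      have := hroot (t := 0) hM'.2.2 fun x hx => ⟨(hMR x hx).1, by simpa using (hMR x hx).2⟩
      simpa using this
    · -- an eigenvalue of order dividing `q ^ 2 + 1` and one repeated
      simp only [List.mem_cons, List.not_mem_nil, or_false] at hM
      have hpos : 0 < M ∧ Even M ∧ IsTarget q p (p * M) := by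
        have : 1 ≤ q - 1 := by omega
        rcases hM with rfl | rfl
        · exact ⟨Nat.div_pos (by nlinarith) (by norm_num), even_iff_two_dvd.2 e4, by simp [IsTarget]⟩
        · exact ⟨Nat.div_pos (by nlinarith) (by norm_num), even_iff_two_dvd.2 e5, by simp [IsTarget]⟩
      refine ⟨p * M, hpos.2.2, combine _ ?_ (hk _ (hpos.2.1.mul_left p))⟩
      have := hroot (t := 1) hpos.1 fun x hx =>
        ⟨(hMR x hx).1, (hMR x hx).2.trans (by rw [pow_one]; omega)⟩
      simpa using this
    · -- eigenvalues of order dividing `q ^ 2 - 1`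
      by_cases h4 : ∀ x ∈ R, R.count x ≤ p
      · refine ⟨p * (q ^ 2 - 1), by simp [IsTarget], combine _ ?_ (hk _ (hev2.mul_left p))⟩
        have := hroot (t := 1) hq21 fun x hx => ⟨(hD x hx).1, by rw [pow_one]; exact h4 x hx⟩
        simpa using this
      push Not at h4
      obtain ⟨x, hx, hxp⟩ := h4

      have h2c := (hD x hx).2
      have hp33 : p = 3 := by omega
      have hb1 := hsym.bound₁ hx
      have hper : Symm.per q x = 1 := by
        have := (hsym.per_spec hx).1
        nlinarith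
      rw [hper, one_mul] at hb1
      have hall : ∀ w ∈ R, w ∈ Symm.orb q x := fun w hw => by
        by_contra hwo
        have := hsym.bound₂ hx hw hwo
        rw [hper, one_mul] at this
        have := hsym.weight_pos hw
        omega
      refine ⟨9 * ((q ^ 2 - 1) / 2), by simp [IsTarget, hp33],
        combine _ ?_ (hk _ ((even_iff_two_dvd.2 e6).mul_left 9))⟩
      have := hroot (t := 2) hhalf fun w hw => ⟨?_, ?_⟩
      · simpa [hp33] using this
      · refine Symm.pow_eq_one_orb ?_ (hall w hw)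
        rcases hsym.per_pow hx with h | h <;> rw [hper, pow_one] at h
        exacts [pow_dvd h e7, pow_dvd h e8]
      · have := hsym.bound₁ hw
        have := Nat.le_mul_of_pos_left (R.count w) (hsym.per_spec hw).1
        rw [hp33]
        omega

end CfsgLib.Recog.OmegaNine
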