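import Cfsg.Agent.Lib.Recog.OmegaNine.Unipotent

/-!
Element orders of `V ⋊ Ω(V)` in dimension eight against those of `Ω` in dimension nine, apart from
the fixed-point-free isometries of the other type.
-/

set_option autoImplicit false
set_option linter.unusedSectionVars false

namespace CfsgLib.Recog.OmegaNine

open Matrix QuadraticMap CfsgLib.Orth

variable {F : Type*} [Field F] [Fintype F] [DecidableEq F] {p : ℕ} [hp : Fact p.Prime] [CharP F p]
variable {ι : Type} [Fintype ι] [DecidableEq ι] {Q : QuadraticForm F (ι → F)}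

theorem app_pow_end (g : O Q) (j : ℕ) : app (g ^ j) = ((app g) ^ j : Module.End F (ι → F)) := by
  induction j with
  | zero => exact LinearMap.ext fun x => by simp
  | succ j ih =>
    refine LinearMap.ext fun x => ?_
    rw [pow_succ', pow_succ', app_mul, ih]
    rfl

/-- The ranges of the powers of a nilpotent map decrease strictly. -/
theorem finrank_range_pow_le {V : Type*} [AddCommGroup V] [Module F V] [FiniteDimensional F V]
    {N : Module.End F V} (hN : IsNilpotent N) (j : ℕ) :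
    Module.finrank F (LinearMap.range (N ^ j)) ≤ Module.finrank F V - j := by
  induction j with
  | zero => exact Submodule.finrank_le _
  | succ j ih =>
    have hle : LinearMap.range (N ^ (j + 1)) ≤ LinearMap.range (N ^ j) := by
      rintro _ ⟨x, rfl⟩
      exact ⟨N x, by rw [pow_succ, Module.End.mul_apply]⟩
    rcases hle.eq_or_lt with e | h
    · obtain ⟨L, hL⟩ := hN
      have hs : ∀ i, LinearMap.range (N ^ (j + i)) = LinearMap.range (N ^ j) := by
        intro i
        induction i with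
        | zero => rfl
        | succ i ih =>
          rw [show j + (i + 1) = (j + i) + 1 by omega, pow_succ', Module.End.mul_eq_comp,
            LinearMap.range_comp, ih, ← LinearMap.range_comp, ← Module.End.mul_eq_comp, ← pow_succ',
            e]
      have h0 : LinearMap.range (N ^ j) = ⊥ := by
        rw [← hs L, pow_add, hL, mul_zero, LinearMap.range_zero]
      rw [e, h0, finrank_bot]
      exact Nat.zero_le _
    · have := Submodule.finrank_lt_finrank_of_lt h
      omega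

theorem pow_eq_zero_of_finrank_le {V : Type*} [AddCommGroup V] [Module F V]
    [FiniteDimensional F V] {N : Module.End F V} (hN : IsNilpotent N) {j : ℕ}
    (hj : Module.finrank F V ≤ j) : N ^ j = 0 := by
  rw [← LinearMap.range_eq_bot, ← Submodule.finrank_eq_zero]
  have := finrank_range_pow_le hN j
  omega

theorem sub_one_pow_app (g : O Q) (e : ℕ) :
    (app g - 1 : Module.End F (ι → F)) ^ p ^ e = app (g ^ p ^ e) - 1 := by
  rw [sub_one_pow_prime_pow (F := F) (R := Module.End F (ι → F)), app_pow_end]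

theorem isNilpotent_app_sub_one {b : O Q} {e : ℕ} (hb : b ^ p ^ e = 1) :
    IsNilpotent (app b - 1 : Module.End F (ι → F)) :=
  ⟨p ^ e, by
    rw [sub_one_pow_app, hb, sub_eq_zero]
    exact LinearMap.ext fun x => app_one x⟩

/-- A unipotent isometry of order above `p ^ c` needs dimension above `p ^ c`. -/
theorem lt_card_of_pow_ne_one {b : O Q} {e c : ℕ} (hb : b ^ p ^ e = 1) (hc : b ^ p ^ c ≠ 1) :
    p ^ c < Fintype.card ι := by
  by_contra h
  refine hc (ext_app fun x => ?_)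
  have h0 := pow_eq_zero_of_finrank_le (isNilpotent_app_sub_one hb) (j := p ^ c)
    (by rw [Module.finrank_fintype_fun_eq_card]; omega)
  rw [sub_one_pow_app, sub_eq_zero] at h0
  rw [h0, app_one]
  rfl

theorem le_card_of_sum_ne_zero {b : O Q} {e : ℕ} (hb : b ^ p ^ e = 1) {y : ι → F}
    (hy : ∑ j ∈ Finset.range (p ^ e), app (b ^ j) y ≠ 0) : p ^ e ≤ Fintype.card ι := by
  by_contra h
  apply hy
  have h0 : (app b - 1 : Module.End F (ι → F)) ^ (p ^ e - 1) = 0 :=
    pow_eq_zero_of_finrank_le (isNilpotent_app_sub_one hb)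
      (by rw [Module.finrank_fintype_fun_eq_card]; omega)
  rw [← geom_sum_prime_pow (F := F) (R := Module.End F (ι → F))] at h0
  have h1 := congrArg (fun L : Module.End F (ι → F) => L y) h0
  simpa [LinearMap.sum_apply, app_pow_end] using h1

/-- Sums of a periodic orbit. -/
theorem sum_periodic (b : O Q) {N : ℕ} (hb : b ^ N = 1) (M : ℕ) (y : ι → F) :
    ∑ j ∈ Finset.range (N * M), app (b ^ j) y =
      (M : F) • ∑ j ∈ Finset.range N, app (b ^ j) y := by
  induction M with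
  | zero => simp
  | succ M ih =>
    rw [Nat.mul_succ, Finset.sum_range_add, ih, Nat.cast_succ, add_smul, one_smul]
    congr 1
    refine Finset.sum_congr rfl fun j _ => ?_
    rw [pow_add, pow_mul, hb, one_pow, one_mul]

theorem sum_fixed (a : O Q) {n : ℕ} (hn : a ^ n = 1) (x : ι → F) :
    app a (∑ j ∈ Finset.range n, app (a ^ j) x) = ∑ j ∈ Finset.range n, app (a ^ j) x := by
  rw [map_sum]
  have h : ∀ j, app a (app (a ^ j) x) = app (a ^ (j + 1)) x := fun j => by rw [pow_succ', app_mul]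
  simp only [h]
  have e := Finset.sum_range_succ' (fun j => app (a ^ j) x) n
  rw [Finset.sum_range_succ, hn, pow_zero] at e
  exact (add_right_cancel e).symm

theorem app_pow_fixed {a : O Q} {x : ι → F} (h : app a x = x) (N : ℕ) : app (a ^ N) x = x := by
  induction N with
  | zero => rw [pow_zero, app_one]
  | succ N ih => rw [pow_succ', app_mul, ih, h]

theorem Sum.card_eq {κ μ : Type} [Fintype κ] [DecidableEq κ] [Fintype μ] [DecidableEq μ]
    {Qκ : QuadraticForm F (κ → F)} {Qμ : QuadraticForm F (μ → F)} (S : Sum Qκ Qμ Q) :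
    Fintype.card κ + Fintype.card μ = Fintype.card ι := by
  have e := S.E.finrank_eq
  rwa [Module.finrank_prod, Module.finrank_fintype_fun_eq_card, Module.finrank_fintype_fun_eq_card,
    Module.finrank_fintype_fun_eq_card] at e

theorem Sum.nondeg_right {κ μ : Type} [Fintype κ] [DecidableEq κ] [Fintype μ] [DecidableEq μ]
    {Qκ : QuadraticForm F (κ → F)} {Qμ : QuadraticForm F (μ → F)} (S : Sum Qκ Qμ Q)
    (hQ : Q.polarBilin.Nondegenerate) : Qμ.polarBilin.Nondegenerate := S.swap.nondeg_left hQ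

theorem neg_one_ne (h2 : (2 : F) ≠ 0) : (-1 : F) ≠ 1 := fun e => h2 (by linear_combination -e)

/-- A fixed-point-free isometry with trivial characters lives in even dimension. -/
theorem even_card_of_free (hQ : Q.polarBilin.Nondegenerate) (h2 : (2 : F) ≠ 0) {δ : F}
    (hδ : ¬ IsSquare δ) (a : O Q) (ha : chiPair Q δ a = 1) {N : ℕ}
    (hfree : ∀ x, app (a ^ N) x = x → x = 0) : Even (Fintype.card ι) := by
  have h := det_of_fixed_free hQ a fun x hx => hfree x (app_pow_fixed hx N)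
  rw [detHom_eq_one hQ h2 hδ ha, Units.val_one] at h
  by_contra he
  rw [(Nat.not_even_iff_odd.1 he).neg_one_pow] at h
  exact neg_one_ne h2 h.symm

theorem odd_p (h2 : (2 : F) ≠ 0) : Odd p := by
  refine hp.out.odd_of_ne_two fun e => h2 ?_
  subst e
  exact CharP.cast_eq_zero F 2

theorem isSquare_of_not_not (h2 : (2 : F) ≠ 0) {x y : F} (hx : ¬ IsSquare x) (hxy : ¬ IsSquare (x * y)) :
    IsSquare y := by
  have hF : ringChar F ≠ 2 := fun h => h2 (by
    have : CharP F 2 := ringChar.of_eq h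
    exact CharTwo.two_eq_zero)
  by_contra hy
  have a := (quadraticChar_neg_one_iff_not_isSquare).2 hx
  have b := (quadraticChar_neg_one_iff_not_isSquare).2 hy
  have c := (quadraticChar_neg_one_iff_not_isSquare).2 hxy
  rw [map_mul, a, b] at c
  exact absurd c (by decide)

section Affine

variable {δ : F}
  {φ : commutator (O Q) →* MulAut (Multiplicative (ι → F))}
  (hφ : ∀ (g : commutator (O Q)) (v : ι → F),
    φ g (Multiplicative.ofAdd v) = Multiplicative.ofAdd (app (g : O Q) v))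

include hφ in
/-- Powers in the affine group. -/
theorem affine_pow (g : commutator (O Q)) (v : ι → F) (k : ℕ) :
    (⟨Multiplicative.ofAdd v, g⟩ : Multiplicative (ι → F) ⋊[φ] commutator (O Q)) ^ k =
      ⟨Multiplicative.ofAdd (∑ j ∈ Finset.range k, app ((g : O Q) ^ j) v), g ^ k⟩ := by
  induction k with
  | zero => simp
  | succ k ih =>
    rw [pow_succ, ih]
    ext
    · rw [SemidirectProduct.mul_left, hφ, ← ofAdd_add, Finset.sum_range_succ, SubmonoidClass.coe_pow]
    · rw [SemidirectProduct.mul_right, pow_succ]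

theorem mem_omega (hQ : Q.polarBilin.Nondegenerate) (h2 : (2 : F) ≠ 0) (hδ : ¬ IsSquare δ)
    {g : O Q} (hg : chiPair Q δ g = 1) : g ∈ commutator (O Q) := by
  rw [commutator_eq hQ h2 hδ]
  exact hg

theorem chiPair_coe (hQ : Q.polarBilin.Nondegenerate) (h2 : (2 : F) ≠ 0) (hδ : ¬ IsSquare δ)
    (g : commutator (O Q)) : chiPair Q δ (g : O Q) = 1 :=
  MonoidHom.mem_ker.1 (commutator_eq hQ h2 hδ ▸ g.2)

include hφ in
/-- A linear element of the affine group. -/
theorem exists_linear (hQ : Q.polarBilin.Nondegenerate) (h2 : (2 : F) ≠ 0) (hδ : ¬ IsSquare δ)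
    {κ μ : Type} [Fintype κ] [DecidableEq κ] [Fintype μ] [DecidableEq μ]
    {Qa : QuadraticForm F (κ → F)} {R : QuadraticForm F (μ → F)} (S : Sum Qa R Q) (a : O Qa)
    (ha : chiPair Qa δ a = 1) :
    ∃ x : Multiplicative (ι → F) ⋊[φ] commutator (O Q), orderOf a ∣ orderOf x := by
  have hg : chiPair Q δ (S.J (a, 1)) = 1 := by rw [S.chiPair_J h2 hδ hQ, ha, map_one, one_mul]
  refine ⟨⟨1, ⟨S.J (a, 1), mem_omega hQ h2 hδ hg⟩⟩, ?_⟩
  refine dvd_trans ?_ (orderOf_map_dvd SemidirectProduct.rightHom _)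
  show orderOf a ∣ orderOf (⟨S.J (a, 1), mem_omega hQ h2 hδ hg⟩ : commutator (O Q))
  rw [← Subgroup.orderOf_coe ⟨S.J (a, 1), mem_omega hQ h2 hδ hg⟩]
  rw [S.orderOf_J]
  exact Nat.dvd_lcm_left _ _

include hφ in
/-- An affine element of order `M * p ^ (f + 1)`. -/
theorem exists_affine (hQ : Q.polarBilin.Nondegenerate) (h2 : (2 : F) ≠ 0) (hδ : ¬ IsSquare δ)
    (h8 : Fintype.card ι = 8) {κ : Type} [Fintype κ] [DecidableEq κ]
    (Qa : QuadraticForm F (κ → F)) (hQa : Qa.polarBilin.Nondegenerate) (a : O Qa)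
    (ha : chiPair Qa δ a = 1) {M f : ℕ} (hM0 : (M : F) ≠ 0) (hM : M ∣ orderOf a)
    (hdvd : orderOf a ∣ M * p ^ f) (hroom : Fintype.card κ + p ^ f ≤ 8) :
    ∃ x : Multiplicative (ι → F) ⋊[φ] commutator (O Q), M * p ^ (f + 1) ∣ orderOf x := by
  have hdet : (CfsgLib.QuadFin.gram ⇑Qa).det * (CfsgLib.QuadFin.gram ⇑Q).det ≠ 0 :=
    mul_ne_zero (CfsgLib.QuadFin.gram_det_ne_zero Qa hQa) (CfsgLib.QuadFin.gram_det_ne_zero Q hQ)
  obtain ⟨R, u, hR, hsq, hu1, -, hu3⟩ := exists_regular (p := p) h2 ((odd_p (p := p) h2).pow (n := f))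
    (show p ^ f ≤ 8 - Fintype.card κ by omega) hdet
  obtain ⟨S⟩ := exists_sum h2 Qa R Q hQa hR hQ (by simp; omega) (by
    obtain ⟨s, hs⟩ := hsq
    exact ⟨s, by rw [← hs]; ring⟩)
  obtain ⟨w, hw⟩ := hu3 f rfl
  have hup : u ^ p ^ f = 1 := hu1 f le_rfl
  have hg : chiPair Q δ (S.J (a, u)) = 1 := by
    rw [S.chiPair_J h2 hδ hQ, ha, chiPair_eq_one_of_pow u ((odd_p (p := p) h2).pow (n := f)) hup,
      one_mul]
  set g : commutator (O Q) := ⟨S.J (a, u), mem_omega hQ h2 hδ hg⟩
  set x : Multiplicative (ι → F) ⋊[φ] commutator (O Q) := ⟨Multiplicative.ofAdd (S.E (0, w)), g⟩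
  refine ⟨x, ?_⟩
  have hgL : S.J (a, u) ^ (p ^ f * M) = 1 := by
    rw [← map_pow, Prod.pow_mk, pow_mul u, hup, one_pow,
      orderOf_dvd_iff_pow_eq_one.1 (mul_comm M (p ^ f) ▸ hdvd)]
    exact map_one S.J
  have hxL : x ^ (p ^ f * M) = SemidirectProduct.inl
      (Multiplicative.ofAdd ((M : F) • S.E (0, ∑ j ∈ Finset.range (p ^ f), app (u ^ j) w))) := by
    rw [affine_pow hφ, show g ^ (p ^ f * M) = 1 from Subtype.ext hgL,
      ← LinearEquiv.map_smul, Prod.smul_mk, smul_zero, ← sum_periodic u hup]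
    refine SemidirectProduct.ext ?_ rfl
    rw [SemidirectProduct.left_inl]
    refine congrArg Multiplicative.ofAdd ?_
    · have : ∀ j, app ((g : O Q) ^ j) (S.E (0, w)) = S.E (0, app (u ^ j) w) := fun j => by
        show app (S.J (a, u) ^ j) _ = _
        rw [← map_pow, Prod.pow_mk, S.app_J, map_zero]
      rw [Finset.sum_congr rfl fun j _ => this j, ← map_sum]
      congr 1
      refine Prod.ext ?_ ?_
      · rw [Prod.fst_sum]; exact Finset.sum_const_zero
      · rw [Prod.snd_sum]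
  have hne : x ^ (p ^ f * M) ≠ 1 := by
    rw [hxL, ← map_one SemidirectProduct.inl, Ne, SemidirectProduct.inl_inj, ofAdd_eq_one,
      smul_eq_zero, LinearEquiv.map_eq_zero_iff]
    exact fun h => h.elim hM0 fun h => hw (congrArg Prod.snd h)
  have hp1 : (x ^ (p ^ f * M)) ^ p = 1 := by
    rw [hxL, ← map_pow, ← ofAdd_nsmul, ← Nat.cast_smul_eq_nsmul F, CharP.cast_eq_zero, zero_smul,
      ofAdd_zero, map_one]
  have hMx : M ∣ orderOf x := by
    refine hM.trans (dvd_trans ?_ (orderOf_map_dvd SemidirectProduct.rightHom x))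
    show orderOf a ∣ orderOf g
    rw [← Subgroup.orderOf_coe g]
    rw [S.orderOf_J]
    exact Nat.dvd_lcm_left _ _
  obtain ⟨t, ht⟩ := hMx
  have hM1 : 0 < M := Nat.pos_of_ne_zero fun h => hM0 (by rw [h, Nat.cast_zero])
  have ht' : t ∣ p ^ (f + 1) := Nat.dvd_of_mul_dvd_mul_left hM1 (by
    rw [← ht, show M * p ^ (f + 1) = p ^ f * M * p by ring]
    exact orderOf_dvd_of_pow_eq_one (by rw [pow_mul, hp1]))
  obtain ⟨i, hi, rfl⟩ := (Nat.dvd_prime_pow hp.out).1 ht'
  rcases Nat.lt_or_ge i (f + 1) with h | h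
  · refine absurd ?_ hne
    rw [← orderOf_dvd_iff_pow_eq_one, ht, mul_comm]
    exact Nat.mul_dvd_mul_right (pow_dvd_pow p (by omega)) M
  · rw [ht]
    exact mul_dvd_mul_left M (pow_dvd_pow p h)

variable {ι' : Type} [Fintype ι'] [DecidableEq ι'] {Q' : QuadraticForm F (ι' → F)}

include hφ in
/-- Every order of the affine group occurs in dimension nine. -/
theorem affine_le_nine (hQ : Q.polarBilin.Nondegenerate) (hQ' : Q'.polarBilin.Nondegenerate)
    (h2 : (2 : F) ≠ 0) (hδ : ¬ IsSquare δ) (h8 : Fintype.card ι = 8) (h9 : Fintype.card ι' = 9)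
    (x : Multiplicative (ι → F) ⋊[φ] commutator (O Q)) :
    ∃ y : O Q', chiPair Q' δ y = 1 ∧ orderOf x ∣ orderOf y := by
  obtain ⟨w, g⟩ := x
  obtain ⟨p, hpc⟩ := CharP.exists F
  have hp : Fact p.Prime := ⟨CharP.char_is_prime F p⟩
  set v := Multiplicative.toAdd w with hv
  rw [show w = Multiplicative.ofAdd v from rfl]
  set n := orderOf (g : O Q) with hn
  have hn' : g ^ n = 1 := Subtype.ext (by rw [SubmonoidClass.coe_pow]; exact pow_orderOf_eq_one _)
  set s := ∑ j ∈ Finset.range n, app ((g : O Q) ^ j) v with hs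
  have hxn : (⟨Multiplicative.ofAdd v, g⟩ : Multiplicative (ι → F) ⋊[φ] commutator (O Q)) ^ n =
      SemidirectProduct.inl (Multiplicative.ofAdd s) := by
    rw [affine_pow hφ, hn']; rfl
  have hchi := chiPair_coe hQ h2 hδ g
  have hdQ := CfsgLib.QuadFin.gram_det_ne_zero Q hQ
  have hdQ' := CfsgLib.QuadFin.gram_det_ne_zero Q' hQ'
  by_cases h0 : s = 0
  · obtain ⟨R, hR, hd⟩ := exists_form h2 (m := 1) le_rfl (mul_ne_zero hdQ hdQ')
    obtain ⟨S⟩ := exists_sum h2 Q R Q' hQ hR hQ' (by simp; omega) (by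
      rw [hd]; exact ⟨(CfsgLib.QuadFin.gram ⇑Q).det * (CfsgLib.QuadFin.gram ⇑Q').det, by ring⟩)
    refine ⟨S.J ((g : O Q), 1), by rw [S.chiPair_J h2 hδ hQ', hchi, map_one, one_mul], ?_⟩
    rw [S.orderOf_J, orderOf_one]
    refine dvd_trans (orderOf_dvd_of_pow_eq_one ?_) (Nat.dvd_lcm_left _ _)
    rw [hxn, h0, ofAdd_zero, map_one]
  obtain ⟨e, M, hM, hnM⟩ := Nat.exists_eq_pow_mul_and_not_dvd (orderOf_pos (g : O Q)).ne' p hp.out.ne_one
  have hM0 : (M : F) ≠ 0 := by rwa [Ne, CharP.cast_eq_zero_iff F p]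
  rw [← hn] at hnM
  obtain ⟨d, k, Qa, Qb, S, a, b, hJ, hafree, hb⟩ := exists_split hQ (g : O Q) hM0
    (N := p ^ e) (by rw [← pow_mul, ← hnM, hn, pow_orderOf_eq_one])
  have hpo := (odd_p (p := p) h2).pow (n := e)
  have hQa := S.nondeg_left hQ
  have hchia : chiPair Qa δ a = 1 := by
    rwa [← hJ, S.chiPair_J h2 hδ hQ, chiPair_eq_one_of_pow b hpo hb, mul_one] at hchi
  have hdev := even_card_of_free hQa h2 hδ a hchia hafree
  have hord : n = Nat.lcm (orderOf a) (orderOf b) := by rw [hn, ← hJ, S.orderOf_J]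
  have han : a ^ n = 1 := orderOf_dvd_iff_pow_eq_one.1 (hord ▸ Nat.dvd_lcm_left _ _)
  obtain ⟨⟨x, y⟩, hxy⟩ := S.E.surjective v
  have hy : ∑ j ∈ Finset.range (p ^ e), app (b ^ j) y ≠ 0 := by
    intro h
    apply h0
    have hcomp : ∀ j, app ((g : O Q) ^ j) v = S.E (app (a ^ j) x, app (b ^ j) y) := fun j => by
      rw [← hJ, ← hxy, ← map_pow, Prod.pow_mk, S.app_J]
    have hxz : ∑ j ∈ Finset.range n, app (a ^ j) x = 0 :=
      hafree _ (app_pow_fixed (sum_fixed a han x) _)
    have hyz : ∑ j ∈ Finset.range n, app (b ^ j) y = 0 := by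
      rw [hnM, sum_periodic b hb, h, smul_zero]
    rw [hs, Finset.sum_congr rfl fun j _ => hcomp j, ← map_sum, LinearEquiv.map_eq_zero_iff]
    exact Prod.ext (by rw [Prod.fst_sum]; exact hxz) (by rw [Prod.snd_sum]; exact hyz)
  have hcard := S.card_eq
  have hek := le_card_of_sum_ne_zero hb hy
  simp only [Fintype.card_fin] at hcard hek hdev
  have hek' : p ^ e + 1 ≤ k := by
    obtain ⟨i, hi⟩ := hdev
    obtain ⟨j, hj⟩ := hpo
    omega
  have hpe : p ^ (e + 1) = p ^ e * p := pow_succ _ _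
  have h3 : 3 ≤ p := by
    have := hp.out.two_le
    have := odd_p (p := p) h2
    rcases this with ⟨i, rfl⟩
    omega
  have h1 : 1 ≤ p ^ e := Nat.one_le_pow _ _ hp.out.pos
  obtain ⟨R, u, hR, hsq, hu1, hu2, -⟩ := exists_regular (p := p) h2 (r := p ^ e + 2) (m := k + 1)
    (by obtain ⟨j, hj⟩ := hpo; exact ⟨j + 1, by omega⟩) (by omega)
    (mul_ne_zero (CfsgLib.QuadFin.gram_det_ne_zero Qa hQa) hdQ')
  obtain ⟨T⟩ := exists_sum h2 Qa R Q' hQa hR hQ' (by simp; omega) (by
    obtain ⟨s, hs⟩ := hsq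
    exact ⟨s, by rw [← hs]; ring⟩)
  have hup : u ^ p ^ (e + 1) = 1 := hu1 _ (by rw [hpe]; nlinarith)
  have huo : orderOf u = p ^ (e + 1) := orderOf_eq_prime_pow (hu2 e (by omega)) hup
  refine ⟨T.J (a, u), ?_, ?_⟩
  · rw [T.chiPair_J h2 hδ hQ', hchia,
      chiPair_eq_one_of_pow u ((odd_p (p := p) h2).pow (n := e + 1)) hup, one_mul]
  rw [T.orderOf_J, huo]
  refine dvd_trans (orderOf_dvd_of_pow_eq_one (n := M * p ^ (e + 1)) ?_) ?_
  · rw [show M * p ^ (e + 1) = n * p by rw [hnM, hpe]; ring, pow_mul, hxn, ← map_pow, ← ofAdd_nsmul,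
      ← Nat.cast_smul_eq_nsmul F, CharP.cast_eq_zero, zero_smul, ofAdd_zero, map_one]
  · refine Nat.Coprime.mul_dvd_of_dvd_of_dvd
      (Nat.Coprime.pow_right _ (Nat.Coprime.symm ((hp.out.coprime_iff_not_dvd).2 hM))) ?_
      (Nat.dvd_lcm_right _ _)
    refine dvd_trans (hnM ▸ dvd_mul_left M (p ^ e)) ?_
    rw [hord]
    refine Nat.lcm_dvd (Nat.dvd_lcm_left _ _) (dvd_trans ?_ (Nat.dvd_lcm_right _ _))
    exact (orderOf_dvd_of_pow_eq_one hb).trans (pow_dvd_pow p (Nat.le_succ e))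

include hφ in
/-- Every order in dimension nine occurs in the affine group, given the orders of the other
type. -/
theorem nine_le_affine (hQ : Q.polarBilin.Nondegenerate) (hQ' : Q'.polarBilin.Nondegenerate)
    (h2 : (2 : F) ≠ 0) (hδ : ¬ IsSquare δ) (h8 : Fintype.card ι = 8) (h9 : Fintype.card ι' = 9)
    (hns : ¬ IsSquare (CfsgLib.QuadFin.gram ⇑Q).det)
    (hplus : ∀ (Qa : QuadraticForm F (Fin 8 → F)), Qa.polarBilin.Nondegenerate →
      IsSquare (CfsgLib.QuadFin.gram ⇑Qa).det → ∀ (a : O Qa) (N : ℕ), chiPair Qa δ a = 1 →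
      (∀ x, app (a ^ N) x = x → x = 0) →
      ∃ x : Multiplicative (ι → F) ⋊[φ] commutator (O Q), orderOf a ∣ orderOf x)
    (g : O Q') (hg : chiPair Q' δ g = 1) :
    ∃ x : Multiplicative (ι → F) ⋊[φ] commutator (O Q), orderOf g ∣ orderOf x := by
  obtain ⟨p, hpc⟩ := CharP.exists F
  have hp : Fact p.Prime := ⟨CharP.char_is_prime F p⟩
  obtain ⟨e, M, hM, hnM⟩ := Nat.exists_eq_pow_mul_and_not_dvd (orderOf_pos g).ne' p hp.out.ne_one
  have hM0 : (M : F) ≠ 0 := by rwa [Ne, CharP.cast_eq_zero_iff F p]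
  obtain ⟨d, k, Qa, Qb, S, a, b, hJ, hafree, hb⟩ := exists_split hQ' g hM0
    (N := p ^ e) (by rw [← pow_mul, ← hnM, pow_orderOf_eq_one])
  have hpo := (odd_p (p := p) h2).pow (n := e)
  have hQa := S.nondeg_left hQ'
  have hchia : chiPair Qa δ a = 1 := by
    rwa [← hJ, S.chiPair_J h2 hδ hQ', chiPair_eq_one_of_pow b hpo hb, mul_one] at hg
  have hdev := even_card_of_free hQa h2 hδ a hchia hafree
  have hord : orderOf g = Nat.lcm (orderOf a) (orderOf b) := by rw [← hJ, S.orderOf_J]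
  obtain ⟨c, -, hc⟩ := (Nat.dvd_prime_pow hp.out).1 (orderOf_dvd_of_pow_eq_one hb)
  have hcard := S.card_eq
  simp only [Fintype.card_fin] at hcard hdev
  rw [h9] at hcard
  have hbc : ∀ f, c = f + 1 → p ^ f + 2 ≤ k := by
    intro f hf
    have hne : b ^ p ^ f ≠ 1 := by
      rw [Ne, ← orderOf_dvd_iff_pow_eq_one, hc, Nat.pow_dvd_pow_iff_le_right hp.out.one_lt]
      omega
    have := lt_card_of_pow_ne_one hb hne
    rw [Fintype.card_fin] at this
    obtain ⟨i, hi⟩ := hdev
    obtain ⟨j, hj⟩ := (odd_p (p := p) h2).pow (n := f)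
    omega
  have hdet : (CfsgLib.QuadFin.gram ⇑Qa).det * (CfsgLib.QuadFin.gram ⇑Q).det ≠ 0 :=
    mul_ne_zero (CfsgLib.QuadFin.gram_det_ne_zero Qa hQa) (CfsgLib.QuadFin.gram_det_ne_zero Q hQ)
  by_cases hdiv : orderOf b ∣ orderOf a
  · -- the element is carried by `a`
    have hga : orderOf g = orderOf a := by rw [hord, Nat.lcm_eq_left hdiv]
    rw [hga]
    by_cases hd8 : d = 8
    · subst hd8
      by_cases hsq : IsSquare ((CfsgLib.QuadFin.gram ⇑Qa).det * (CfsgLib.QuadFin.gram ⇑Q).det)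
      · have hR : (0 : QuadraticForm F (Fin 0 → F)).polarBilin.Nondegenerate :=
          nondeg_of_det (by rw [Matrix.det_isEmpty]; exact one_ne_zero)
        obtain ⟨T⟩ := exists_sum h2 Qa (0 : QuadraticForm F (Fin 0 → F)) Q hQa hR hQ (by simp; omega)
          (by rwa [Matrix.det_isEmpty (A := CfsgLib.QuadFin.gram ⇑(0 : QuadraticForm F (Fin 0 → F))),
            mul_one])
        exact exists_linear hφ hQ h2 hδ T a hchia
      · exact hplus Qa hQa (isSquare_of_not_not h2 hns (by rwa [mul_comm])) a _ hchia hafree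
    · obtain ⟨i, hi⟩ := hdev
      obtain ⟨R, hR, hd⟩ := exists_form h2 (m := 8 - d) (by omega) hdet
      obtain ⟨T⟩ := exists_sum h2 Qa R Q hQa hR hQ (by simp; omega) (by
        rw [hd]; exact ⟨(CfsgLib.QuadFin.gram ⇑Qa).det * (CfsgLib.QuadFin.gram ⇑Q).det, by ring⟩)
      exact exists_linear hφ hQ h2 hδ T a hchia
  · -- the unipotent part is too long
    obtain ⟨f, hf⟩ : ∃ f, c = f + 1 := ⟨c - 1, by
      rcases Nat.eq_zero_or_pos c with h | h
      · exact absurd (by rw [hc, h, pow_zero]; exact one_dvd _) hdiv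
      · omega⟩
    have hMa : M ∣ orderOf a := by
      refine (Nat.Coprime.pow_right c (Nat.Coprime.symm ((hp.out.coprime_iff_not_dvd).2 hM))).dvd_of_dvd_mul_right ?_
      rw [← hc]
      have h1 : M ∣ orderOf g := ⟨p ^ e, by rw [hnM, mul_comm]⟩
      rw [hord] at h1
      exact h1.trans (Nat.lcm_dvd_mul _ _)
    obtain ⟨t, ht⟩ := hMa
    have hta : t ∣ p ^ e := by
      refine Nat.dvd_of_mul_dvd_mul_left (Nat.pos_of_ne_zero (n := M) fun h => hM0 (by rw [h, Nat.cast_zero])) ?_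
      rw [← ht, mul_comm M, ← hnM, hord]
      exact Nat.dvd_lcm_left _ _
    obtain ⟨i, -, rfl⟩ := (Nat.dvd_prime_pow hp.out).1 hta
    have hif : i ≤ f := by
      by_contra h
      exact hdiv (by rw [hc, ht]; exact dvd_mul_of_dvd_right (pow_dvd_pow p (by omega)) M)
    have := hbc f hf
    obtain ⟨x, hx⟩ := exists_affine (p := p) hφ hQ h2 hδ h8 Qa hQa a hchia hM0 (ht ▸ dvd_mul_right M _)
      (ht ▸ mul_dvd_mul_left M (pow_dvd_pow p hif)) (by rw [Fintype.card_fin]; omega)
    refine ⟨x, dvd_trans ?_ hx⟩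
    rw [hord, ht, hc, hf]
    exact Nat.lcm_dvd (mul_dvd_mul_left M (pow_dvd_pow p (by omega))) (dvd_mul_left _ _)

end Affine

end CfsgLib.Recog.OmegaNine
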