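import Cfsg.Agent.Lib.Recog.OmegaNine.Split

/-!
Regular unipotent isometries in every odd dimension, of either discriminant, padded by identities.
-/

set_option autoImplicit false
set_option linter.unusedSectionVars false

namespace CfsgLib.Recog.OmegaNine

open Matrix QuadraticMap CfsgLib.Orth

variable {F : Type*} [Field F] [Fintype F] [DecidableEq F] {p : ℕ} [hp : Fact p.Prime] [CharP F p]

/-- The anti-diagonal with alternating signs. -/
def antiG (F : Type*) [Field F] (r : ℕ) : Matrix (Fin r) (Fin r) F :=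
  Matrix.of fun i j => if (i : ℕ) + j + 1 = r then (-1) ^ (i : ℕ) else 0

/-- The shift. -/
def shiftN (F : Type*) [Field F] (r : ℕ) : Matrix (Fin r) (Fin r) F :=
  Matrix.of fun i j => if (i : ℕ) = j + 1 then 1 else 0

theorem shiftN_pow (r k : ℕ) :
    shiftN F r ^ k = Matrix.of fun (i j : Fin r) => if (i : ℕ) = j + k then 1 else 0 := by
  induction k with
  | zero => ext i j; simp [Matrix.one_apply, Fin.ext_iff]
  | succ k ih =>
    ext i j
    rw [pow_succ', ih, Matrix.mul_apply]
    by_cases h : (j : ℕ) + k < r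
    · rw [Finset.sum_eq_single ⟨(j : ℕ) + k, h⟩]
      · simp [shiftN, add_assoc]
      · intro l _ hl
        have : (l : ℕ) ≠ j + k := fun e => hl (Fin.ext e)
        simp [this]
      · simp
    · rw [Finset.sum_eq_zero]
      · have : ¬ (i : ℕ) = j + (k + 1) := by have := i.2; omega
        simp [this]
      · intro l _
        have : ¬ (l : ℕ) = j + k := by have := l.2; omega
        simp [this]

theorem antiG_sq {r : ℕ} (hr : Odd r) : antiG F r * antiG F r = 1 := by
  ext i j
  rw [Matrix.mul_apply, Finset.sum_eq_single ⟨r - 1 - i, by have := i.2; omega⟩]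
  · by_cases h : i = j
    · subst h
      have h1 : (i : ℕ) + (r - 1 - i) + 1 = r ∧ r - 1 - (i : ℕ) + i + 1 = r := by
        have := i.2; omega
      simp only [antiG, Matrix.of_apply, h1.1, h1.2, if_true, Matrix.one_apply_eq, ← pow_add]
      obtain ⟨s, rfl⟩ := hr
      rw [show (i : ℕ) + (2 * s + 1 - 1 - i) = 2 * s by have := i.2; omega, pow_mul, neg_one_sq,
        one_pow]
    · have : ¬ r - 1 - (i : ℕ) + j + 1 = r := by
        have := i.2; have := j.2; intro e; exact h (Fin.ext (by omega))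
      simp [antiG, this, h]
  · intro l _ hl
    have : ¬ (i : ℕ) + l + 1 = r := fun e => hl (Fin.ext (by simp; omega))
    simp [antiG, this]
  · simp

theorem antiG_transpose {r : ℕ} (hr : Odd r) : (antiG F r)ᵀ = antiG F r := by
  ext i j
  simp only [antiG, Matrix.transpose_apply, Matrix.of_apply]
  by_cases h : (i : ℕ) + j + 1 = r
  · rw [if_pos h, if_pos (by omega)]
    have he : Even ((i : ℕ) + j) := by
      rw [← Nat.not_odd_iff_even]; intro ho
      exact (Nat.not_even_iff_odd.2 hr) (h ▸ ho.add_one)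
    rw [Nat.even_add] at he
    by_cases hi : Even (i : ℕ)
    · rw [hi.neg_one_pow, (he.1 hi).neg_one_pow]
    · rw [(Nat.not_even_iff_odd.1 hi).neg_one_pow,
        (Nat.not_even_iff_odd.1 (fun hj => hi (he.2 hj))).neg_one_pow]
  · rw [if_neg h, if_neg (by omega)]

theorem shiftN_skew {r : ℕ} :
    (shiftN F r)ᵀ * antiG F r = -(antiG F r * shiftN F r) := by
  ext i j
  rw [Matrix.mul_apply, Matrix.neg_apply, Matrix.mul_apply]
  by_cases h : (i : ℕ) + j + 2 = r
  · rw [Finset.sum_eq_single ⟨i + 1, by omega⟩, Finset.sum_eq_single ⟨j + 1, by omega⟩]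
    · have h1 : (i : ℕ) + 1 + j + 1 = r ∧ (i : ℕ) + (j + 1) + 1 = r := by omega
      simp [shiftN, antiG, h1, pow_succ]
    · intro l _ hl
      have : ¬ (l : ℕ) = j + 1 := fun e => hl (Fin.ext e)
      simp [shiftN, this]
    · simp
    · intro l _ hl
      have : ¬ (l : ℕ) = i + 1 := fun e => hl (Fin.ext e)
      simp [shiftN, this]
    · simp
  · rw [Finset.sum_eq_zero, Finset.sum_eq_zero, neg_zero]
    · intro l _
      by_cases hl : (l : ℕ) = j + 1
      · have : ¬ (i : ℕ) + l + 1 = r := by omega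
        simp [antiG, this]
      · simp [shiftN, hl]
    · intro l _
      by_cases hl : (l : ℕ) = i + 1
      · have : ¬ (l : ℕ) + j + 1 = r := by omega
        simp [antiG, this]
      · simp [shiftN, hl]

theorem geom_sum_prime_pow {R : Type*} [Ring R] [Algebra F R] (A : R) (e : ℕ) :
    ∑ i ∈ Finset.range (p ^ e), A ^ i = (A - 1) ^ (p ^ e - 1) := by
  have h : (∑ i ∈ Finset.range (p ^ e), (Polynomial.X : Polynomial F) ^ i) =
      (Polynomial.X - 1) ^ (p ^ e - 1) := by
    refine mul_right_cancel₀ (show (Polynomial.X - 1 : Polynomial F) ≠ 0 from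
      Polynomial.X_sub_C_ne_zero 1) ?_
    rw [geom_sum_mul, ← pow_succ, Nat.sub_add_cancel (Nat.one_le_pow _ _ hp.out.pos),
      sub_pow_char_pow, one_pow]
  simpa [map_sum] using congrArg (Polynomial.aeval A) h

theorem sub_one_pow_prime_pow {R : Type*} [Ring R] [Algebra F R] (A : R) (e : ℕ) :
    (A - 1) ^ p ^ e = A ^ p ^ e - 1 := by
  have h : (Polynomial.X - 1 : Polynomial F) ^ p ^ e = Polynomial.X ^ p ^ e - 1 := by
    rw [sub_pow_char_pow, one_pow]
  simpa using congrArg (Polynomial.aeval A) h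

/-- The regular unipotent isometry, padded. -/
theorem exists_regular (h2 : (2 : F) ≠ 0) {r m : ℕ} (hr : Odd r) (hrm : r ≤ m) {c : F}
    (hc : c ≠ 0) :
    ∃ (R : QuadraticForm F (Fin m → F)) (u : O R), R.polarBilin.Nondegenerate ∧
      IsSquare ((CfsgLib.QuadFin.gram ⇑R).det * c) ∧
      (∀ e, r ≤ p ^ e → u ^ p ^ e = 1) ∧ (∀ e, p ^ e < r → u ^ p ^ e ≠ 1) ∧
      (∀ e, r = p ^ e → ∃ w, ∑ j ∈ Finset.range (p ^ e), app (u ^ j) w ≠ 0) := by
  set G := antiG F r
  set N := shiftN F r
  have hG0 : G.det ≠ 0 := fun h => by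
    have := congrArg Matrix.det (antiG_sq (F := F) hr)
    rw [Matrix.det_mul, h, zero_mul, Matrix.det_one] at this
    exact zero_ne_one this
  -- the form with Gram matrix a multiple of `G`
  have build : ∀ s : F, s ≠ 0 → ∃ (R : QuadraticForm F (Fin r → F)) (u : O R),
      R.polarBilin.Nondegenerate ∧ (CfsgLib.QuadFin.gram ⇑R).det = (2 * s) ^ r * G.det ∧
      (∀ e, r ≤ p ^ e → u ^ p ^ e = 1) ∧ (∀ e, p ^ e < r → u ^ p ^ e ≠ 1) ∧
      (∀ e, r = p ^ e → ∃ w, ∑ j ∈ Finset.range (p ^ e), app (u ^ j) w ≠ 0) := by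
    intro s hs
    let R : QuadraticForm F (Fin r → F) := (Matrix.toBilin' (s • G)).toQuadraticMap
    have hgram : CfsgLib.QuadFin.gram ⇑R = (2 * s) • G := by
      ext i j
      show QuadraticMap.polar ⇑R _ _ = _
      rw [LinearMap.BilinMap.polar_toQuadraticMap, Matrix.toBilin'_single, Matrix.toBilin'_single]
      have hji : G j i = G i j := congrFun (congrFun (antiG_transpose (F := F) hr) i) j
      simp [hji]; ring
    have hdet : (CfsgLib.QuadFin.gram ⇑R).det = (2 * s) ^ r * G.det := by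
      rw [hgram, Matrix.det_smul, Fintype.card_fin]
    have hNr : N ^ r = 0 := by
      rw [shiftN_pow]; ext i j
      have : ¬ (i : ℕ) = j + r := by have := i.2; omega
      simp [this]
    have hNr1 : N ^ (r - 1) ≠ 0 := fun h => by
      have := congrFun (congrFun (shiftN_pow (F := F) r (r - 1) ▸ h)
        ⟨r - 1, by have := hr.pos; omega⟩) ⟨0, hr.pos⟩
      simp at this
    have hu1 : IsUnit (1 + N) := IsNilpotent.isUnit_one_add ⟨r, hNr⟩
    have hu2 : IsUnit (1 - N) := IsNilpotent.isUnit_one_sub ⟨r, hNr⟩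
    let x : GL (Fin r) F := hu1.unit * hu2.unit⁻¹
    set U : Matrix (Fin r) (Fin r) F := ((hu2.unit⁻¹ : GL (Fin r) F) : Matrix (Fin r) (Fin r) F)
    have hU1 : (1 - N) * U = 1 := hu2.mul_val_inv
    have hxG : (x : Matrix (Fin r) (Fin r) F)ᵀ * G * (x : Matrix (Fin r) (Fin r) F) = G := by
      have key : (1 + N)ᵀ * G * (1 + N) = (1 - N)ᵀ * G * (1 - N) := by
        simp only [transpose_add, transpose_sub, transpose_one, add_mul, sub_mul, one_mul, mul_add,
          mul_sub, mul_one, N, G, shiftN_skew, neg_mul]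
        abel
      calc (x : Matrix (Fin r) (Fin r) F)ᵀ * G * (x : Matrix (Fin r) (Fin r) F)
          = ((1 + N) * U)ᵀ * G * ((1 + N) * U) := rfl
        _ = Uᵀ * ((1 + N)ᵀ * G * (1 + N)) * U := by rw [transpose_mul]; noncomm_ring
        _ = ((1 - N) * U)ᵀ * G * ((1 - N) * U) := by rw [key, transpose_mul]; noncomm_ring
        _ = G := by rw [hU1, transpose_one, one_mul, mul_one]
    have hiso : ∀ v, R ((x : Matrix (Fin r) (Fin r) F) *ᵥ v) = R v := by
      intro v
      show Matrix.toBilin' (s • G) _ _ = Matrix.toBilin' (s • G) v v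
      rw [Matrix.toBilin'_apply', Matrix.toBilin'_apply', Matrix.smul_mulVec, Matrix.smul_mulVec,
        dotProduct_smul, dotProduct_smul]
      congr 1
      rw [dotProduct_comm, dotProduct_mulVec, ← Matrix.mulVec_transpose, Matrix.mulVec_mulVec,
        Matrix.mulVec_mulVec, hxG, dotProduct_comm]
    let u : O R := ⟨x, fun v _ => hiso v⟩
    set W : Matrix (Fin r) (Fin r) F := (2 : F) • U
    have hsub : mat u - 1 = N * W := by
      calc (x : Matrix (Fin r) (Fin r) F) - 1 = (1 + N) * U - (1 - N) * U := by rw [hU1]; rfl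
        _ = N * W := by rw [Matrix.mul_smul, two_smul]; noncomm_ring
    have hcomm : Commute N W := Commute.smul_right
      (Commute.units_inv_right (u := hu2.unit) ((Commute.one_right N).sub_right (Commute.refl N))) 2
    have hW : IsUnit W := ((hu2.unit⁻¹).isUnit).smul (Units.mk0 (2 : F) h2)
    have hpow : ∀ k, (mat u - 1) ^ k = N ^ k * W ^ k := fun k => by rw [hsub, hcomm.mul_pow]
    have h0 : (mat u - 1) ^ r = 0 := by rw [hpow, hNr, zero_mul]
    have h1 : (mat u - 1) ^ (r - 1) ≠ 0 := by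
      rw [hpow]; exact fun h => hNr1 ((hW.pow _).mul_left_eq_zero.1 h)
    refine ⟨R, u, nondeg_of_det ?_, hdet, fun e he => ?_, fun e he h => ?_, fun e he => ?_⟩
    · rw [hdet]
      exact mul_ne_zero (pow_ne_zero _ (mul_ne_zero h2 hs)) hG0
    · refine Subtype.ext (Units.ext ?_)
      show mat (u ^ p ^ e) = 1
      rw [mat_pow, ← sub_eq_zero, ← sub_one_pow_prime_pow (F := F)]
      exact pow_eq_zero_of_le he h0
    · refine h1 (pow_eq_zero_of_le (show p ^ e ≤ r - 1 by omega) ?_)
      rw [sub_one_pow_prime_pow (F := F), sub_eq_zero, ← mat_pow, h]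
      rfl
    · by_contra hw
      push Not at hw
      apply h1
      have key := geom_sum_prime_pow (F := F) (p := p) (mat u) e
      rw [← he] at key
      rw [← key]
      refine Matrix.ext_of_mulVec_single fun i => ?_
      rw [Matrix.sum_mulVec, Matrix.zero_mulVec, ← hw (Pi.single i 1), ← he]
      exact Finset.sum_congr rfl fun j _ => by rw [app_apply, ← mat_pow]
  rcases Nat.lt_or_ge r m with hlt | hge
  · obtain ⟨R0, u0, hR0, hd0, a1, a2, a3⟩ := build 1 one_ne_zero
    have hd0' : (CfsgLib.QuadFin.gram ⇑R0).det ≠ 0 := CfsgLib.QuadFin.gram_det_ne_zero R0 hR0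
    obtain ⟨R1, hR1, hd1⟩ := exists_form h2 (m := m - r) (by omega)
      (mul_ne_zero hd0' hc)
    obtain ⟨R, hR, hd⟩ := exists_form h2 (m := m) (by omega) hc
    obtain ⟨S⟩ := exists_sum h2 R0 R1 R hR0 hR1 hR (by simp; omega)
      (by rw [hd1, hd]; exact ⟨(CfsgLib.QuadFin.gram ⇑R0).det * c, by ring⟩)
    refine ⟨R, S.J (u0, 1), hR, by rw [hd]; exact ⟨c, rfl⟩, fun e he => ?_, fun e he h => ?_,
      fun e he => ?_⟩
    · rw [← map_pow, Prod.pow_mk, a1 e he, one_pow]
      exact map_one S.J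
    · rw [← map_pow, Prod.pow_mk, one_pow] at h
      exact a2 e he (congrArg Prod.fst (S.J_injective (h.trans (map_one S.J).symm)))
    · obtain ⟨w, hw⟩ := a3 e he
      refine ⟨S.E (w, 0), fun h => hw ?_⟩
      simp only [← map_pow, Prod.pow_mk, one_pow, S.app_J, app_one] at h
      rw [← map_sum, LinearEquiv.map_eq_zero_iff] at h
      simpa [Prod.fst_sum] using congrArg Prod.fst h
  · obtain rfl : r = m := le_antisymm hrm hge
    obtain ⟨R, u, hR, hd, a1, a2, a3⟩ := build (c * G.det / 2)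
      (div_ne_zero (mul_ne_zero hc hG0) h2)
    refine ⟨R, u, hR, ?_, a1, a2, a3⟩
    obtain ⟨s, rfl⟩ := hr
    rw [hd, mul_div_cancel₀ _ h2]
    exact ⟨(c * G.det) ^ (s + 1), by ring⟩

end CfsgLib.Recog.OmegaNine
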