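import Cfsg.Agent.Lib.Recog.OmegaNine.PlusCase

/-!
Elements of `V ⋊ Ω(V)` realising the target orders, and the comparison of the two sets of orders.
-/

set_option autoImplicit false
set_option linter.unusedSectionVars false

namespace CfsgLib.Recog.OmegaNine

open Matrix QuadraticMap CfsgLib.Orth

variable {F : Type*} [Field F] [Fintype F] [DecidableEq F]

/-- Two tori with opposite characters combine to an element of trivial characters. -/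
theorem exists_pair (h2 : (2 : F) ≠ 0) {δ : F} (hδ : ¬ IsSquare δ) {κ μ : Type} [Fintype κ]
    [DecidableEq κ] [Fintype μ] [DecidableEq μ] (R₁ : QuadraticForm F (κ → F))
    (R₂ : QuadraticForm F (μ → F)) (hR₁ : R₁.polarBilin.Nondegenerate)
    (hR₂ : R₂.polarBilin.Nondegenerate) (g₁ : O R₁) (g₂ : O R₂)
    (hg₁ : chiPair R₁ δ g₁ = (-1, -1)) (hg₂ : chiPair R₂ δ g₂ = (-1, -1)) :
    ∃ (R : QuadraticForm F (κ ⊕ μ → F)) (a : O R), R.polarBilin.Nondegenerate ∧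
      chiPair R δ a = 1 ∧ orderOf a = Nat.lcm (orderOf g₁) (orderOf g₂) := by
  have hR := nondeg_qSum hR₁ hR₂
  obtain ⟨S⟩ := exists_sum h2 R₁ R₂ (qSum R₁ R₂) hR₁ hR₂ hR (by simp)
    (by rw [gram_qSum]; exact IsSquare.mul_self _)
  refine ⟨qSum R₁ R₂, S.J (g₁, g₂), hR, ?_, S.orderOf_J _ _⟩
  rw [S.chiPair_J h2 hδ hR, hg₁, hg₂]
  decide

theorem lcm_half {A B : ℕ} (h : Nat.gcd A B ∣ 2) (hA : 2 ∣ A) : A * B / 2 ∣ Nat.lcm A B := by
  obtain ⟨A', rfl⟩ := hA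
  rw [mul_assoc, Nat.mul_div_cancel_left _ (by norm_num : 0 < 2)]
  obtain ⟨c, hc⟩ := h
  refine ⟨c, Nat.eq_of_mul_eq_mul_left (show 0 < 2 by norm_num) ?_⟩
  calc 2 * Nat.lcm (2 * A') B = Nat.gcd (2 * A') B * c * Nat.lcm (2 * A') B := by rw [← hc]
    _ = c * (Nat.gcd (2 * A') B * Nat.lcm (2 * A') B) := by ring
    _ = 2 * (A' * B * c) := by rw [Nat.gcd_mul_lcm]; ring

theorem gcd_facts {q : ℕ} (hq : 2 ≤ q) :
    Nat.gcd (q ^ 2 + 1) (q ^ 2 - 1) ∣ 2 ∧ Nat.gcd (q ^ 2 + 1) (q - 1) ∣ 2 ∧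
      Nat.gcd (q ^ 2 + 1) (q + 1) ∣ 2 ∧ Nat.gcd (q ^ 3 + 1) (q - 1) ∣ 2 ∧
      Nat.gcd (q + 1) (q ^ 3 - 1) ∣ 2 ∧ Nat.gcd (q + 1) (q - 1) ∣ 2 := by
  have key : ∀ A B c : ℕ, A = B * c + 2 → Nat.gcd A B ∣ 2 := fun A B c h => by
    have h1 : Nat.gcd A B ∣ B * c := (Nat.gcd_dvd_right A B).mul_right c
    have h2 := Nat.gcd_dvd_left A B
    rw [h] at h2 ⊢
    exact (Nat.dvd_add_right (h ▸ h1)).1 h2
  obtain ⟨s, rfl⟩ : ∃ s, q = s + 1 := ⟨q - 1, by omega⟩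
  have e1 : (s + 1) ^ 2 - 1 = s * (s + 2) := Nat.sub_eq_of_eq_add (by ring)
  have e3 : (s + 1) ^ 3 - 1 = s * (s * s + 3 * s + 3) := Nat.sub_eq_of_eq_add (by ring)
  simp only [Nat.add_sub_cancel, e1, e3]
  refine ⟨key _ _ 1 (by ring), key _ _ (s + 2) (by ring), key _ _ s (by ring),
    key _ _ (s * s + 3 * s + 3) (by ring), ?_, key _ _ 1 (by ring)⟩
  have h1 : Nat.gcd (s + 1 + 1) (s * (s * s + 3 * s + 3)) ∣ (s + 1 + 1) * (s * s + s + 1) :=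
    (Nat.gcd_dvd_left _ _).mul_right _
  have h2 := Nat.gcd_dvd_right (s + 1 + 1) (s * (s * s + 3 * s + 3))
  rw [show (s + 1 + 1) * (s * s + s + 1) = s * (s * s + 3 * s + 3) + 2 by ring] at h1
  exact (Nat.dvd_add_right h2).1 h1

variable {ι : Type} [Fintype ι] [DecidableEq ι] {Q : QuadraticForm F (ι → F)}
  {φ : commutator (O Q) →* MulAut (Multiplicative (ι → F))}
  (hφ : ∀ (g : commutator (O Q)) (v : ι → F),
    φ g (Multiplicative.ofAdd v) = Multiplicative.ofAdd (app (g : O Q) v))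

set_option maxHeartbeats 1000000 in
include hφ in
theorem exists_of_target {p : ℕ} [hp : Fact p.Prime] [CharP F p] (hQ : Q.polarBilin.Nondegenerate)
    (h2 : (2 : F) ≠ 0) (h8 : Fintype.card ι = 8) (hns : ¬ IsSquare (CfsgLib.QuadFin.gram ⇑Q).det)
    {δ : F} (hδ : ¬ IsSquare δ) {m : ℕ} (hm : IsTarget (Fintype.card F) p m) :
    ∃ x : Multiplicative (ι → F) ⋊[φ] commutator (O Q), m ∣ orderOf x := by
  set q := Fintype.card F with hq
  have hqo : Odd q := odd_card h2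
  have hq2 : 2 ≤ q := Fintype.one_lt_card
  obtain ⟨g1, g2, g3, g4, g5, g6⟩ := gcd_facts hq2
  obtain ⟨e1, e2, e3, e4, e5, e6, e7, e8⟩ := two_mul_dvd_facts hqo
  have hev : ∀ n : ℕ, 2 ∣ q ^ n + 1 := fun n => even_iff_two_dvd.1 hqo.pow.add_one
  have hev1 : 2 ∣ q + 1 := even_iff_two_dvd.1 hqo.add_one
  have hcast : (q : F) = 0 := FiniteField.cast_card_eq_zero F
  have hm1 : (-1 : F) ≠ 0 := neg_ne_zero.2 one_ne_zero
  have hcast' : ∀ n : ℕ, n ≠ 0 → ((q ^ n + 1 : ℕ) : F) ≠ 0 ∧ ((q ^ n - 1 : ℕ) : F) ≠ 0 := by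
    intro n hn
    have h : 1 ≤ q ^ n := Nat.one_le_pow _ _ (by omega)
    refine ⟨by simp [hcast, hn], ?_⟩
    rw [Nat.cast_sub h]
    simp [hcast, hn]
  have hlcm : ∀ A B : ℕ, (A : F) ≠ 0 → (B : F) ≠ 0 → ((Nat.lcm A B : ℕ) : F) ≠ 0 := by
    intro A B hA hB h
    obtain ⟨c, hc⟩ := Nat.lcm_dvd_mul A B
    have e := congrArg (Nat.cast : ℕ → F) hc
    rw [Nat.cast_mul, Nat.cast_mul, h, zero_mul, mul_eq_zero] at e
    exact e.elim hA hB
  have hdQ := CfsgLib.QuadFin.gram_det_ne_zero Q hQ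
  -- tori
  obtain ⟨Pm1, tm1, hPm1, hty1, hom1, hcm1⟩ := exists_torus_minus h2 hδ (a := 1) le_rfl
  obtain ⟨Pm2, tm2, hPm2, hty2, hom2, hcm2⟩ := exists_torus_minus h2 hδ (a := 2) (by norm_num)
  obtain ⟨Pm3, tm3, hPm3, hty3, hom3, hcm3⟩ := exists_torus_minus h2 hδ (a := 3) (by norm_num)
  obtain ⟨tp1, hop1, hcp1⟩ := exists_torus_plus (F := F) h2 hδ (a := 1) le_rfl
  obtain ⟨tp2, hop2, hcp2⟩ := exists_torus_plus (F := F) h2 hδ (a := 2) (by norm_num)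
  obtain ⟨tp3, hop3, hcp3⟩ := exists_torus_plus (F := F) h2 hδ (a := 3) (by norm_num)
  rw [← hq] at hom1 hom2 hom3 hop1 hop2 hop3
  rw [pow_one] at hom1 hop1
  have hP : ∀ a, (plusQ a F).polarBilin.Nondegenerate := fun a => plusQ_nondegenerate a
  -- a linear element from two tori
  have full : ∀ {b c : ℕ} (R₁ : QuadraticForm F (Fin (2 * b) → F)), R₁.polarBilin.Nondegenerate →
      ¬ IsSquare ((CfsgLib.QuadFin.gram ⇑R₁).det * (-1) ^ b) → b + c = 4 →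
      ∀ (t₁ : O R₁) (t₂ : O (plusQ c F)), chiPair R₁ δ t₁ = (-1, -1) →
      chiPair (plusQ c F) δ t₂ = (-1, -1) →
      ∃ x : Multiplicative (ι → F) ⋊[φ] commutator (O Q),
        Nat.lcm (orderOf t₁) (orderOf t₂) ∣ orderOf x := by
    intro b c R₁ hR₁ hty hbc t₁ t₂ h₁ h₂
    obtain ⟨R, a, hR, ha, hoa⟩ := exists_pair h2 hδ R₁ (plusQ c F) hR₁ (hP c) t₁ t₂ h₁ h₂
    have hdet : IsSquare ((CfsgLib.QuadFin.gram ⇑R₁).det * (CfsgLib.QuadFin.gram ⇑(plusQ c F)).det *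
        (CfsgLib.QuadFin.gram ⇑Q).det) := by
      have hmul : (-1 : F) ^ b * (-1) ^ c = 1 := by rw [← pow_add, hbc]; norm_num
      rw [det_plusQ]
      have e : (CfsgLib.QuadFin.gram ⇑R₁).det * (-1) ^ c * (CfsgLib.QuadFin.gram ⇑Q).det =
          ((CfsgLib.QuadFin.gram ⇑R₁).det * (-1) ^ b) * (CfsgLib.QuadFin.gram ⇑Q).det := by
        have hbb : (-1 : F) ^ b * (-1) ^ b = 1 := by rw [← mul_pow]; simp
        linear_combination ((CfsgLib.QuadFin.gram ⇑R₁).det * (CfsgLib.QuadFin.gram ⇑Q).det) *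
          ((-1 : F) ^ b * hmul - (-1 : F) ^ c * hbb)
      rw [e]
      by_contra hx
      exact hns (isSquare_of_not_not h2 hty hx)
    obtain ⟨S⟩ := exists_sum h2 R₁ (plusQ c F) Q hR₁ (hP c) hQ (by simp; omega) hdet
    have hchi : chiPair Q δ (S.J (t₁, t₂)) = 1 := by
      rw [S.chiPair_J h2 hδ hQ, h₁, h₂]; decide
    refine ⟨⟨1, ⟨S.J (t₁, t₂), mem_omega hQ h2 hδ hchi⟩⟩, ?_⟩
    refine dvd_trans ?_ (orderOf_map_dvd SemidirectProduct.rightHom _)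
    show _ ∣ orderOf (⟨S.J (t₁, t₂), mem_omega hQ h2 hδ hchi⟩ : commutator (O Q))
    rw [← Subgroup.orderOf_coe ⟨S.J (t₁, t₂), mem_omega hQ h2 hδ hchi⟩, S.orderOf_J]
  -- an affine element from two tori in fewer dimensions
  have aff : ∀ {κ μ : Type} [Fintype κ] [DecidableEq κ] [Fintype μ] [DecidableEq μ]
      (R₁ : QuadraticForm F (κ → F)) (R₂ : QuadraticForm F (μ → F)), R₁.polarBilin.Nondegenerate →
      R₂.polarBilin.Nondegenerate → ∀ (t₁ : O R₁) (t₂ : O R₂), chiPair R₁ δ t₁ = (-1, -1) →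
      chiPair R₂ δ t₂ = (-1, -1) → (orderOf t₁ : F) ≠ 0 → (orderOf t₂ : F) ≠ 0 → ∀ f : ℕ,
      Fintype.card κ + Fintype.card μ + p ^ f ≤ 8 →
      ∃ x : Multiplicative (ι → F) ⋊[φ] commutator (O Q),
        Nat.lcm (orderOf t₁) (orderOf t₂) * p ^ (f + 1) ∣ orderOf x := by
    intro κ μ _ _ _ _ R₁ R₂ hR₁ hR₂ t₁ t₂ h₁ h₂ c₁ c₂ f hf
    obtain ⟨R, a, hR, ha, hoa⟩ := exists_pair h2 hδ R₁ R₂ hR₁ hR₂ t₁ t₂ h₁ h₂
    exact exists_affine hφ hQ h2 hδ h8 R hR a ha (hlcm _ _ c₁ c₂) (hoa ▸ dvd_rfl)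
      (hoa ▸ dvd_mul_right _ _) (by rw [Fintype.card_sum]; exact hf)
  rcases hm with h | h | h | h | h | h | ⟨hp3, h⟩ | ⟨hp5, h⟩ <;> subst h
  · obtain ⟨x, hx⟩ := full Pm2 hPm2 hty2 (by norm_num) tm2 tp2 hcm2 hcp2
    refine ⟨x, dvd_trans ?_ hx⟩
    rw [hom2, hop2]
    refine dvd_trans (dvd_of_eq ?_) (lcm_half g1 (hev 2))
    congr 1
    rw [← Nat.sq_sub_sq, ← pow_mul, one_pow]
  · obtain ⟨x, hx⟩ := full Pm3 hPm3 hty3 (by norm_num) tm3 tp1 hcm3 hcp1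
    refine ⟨x, dvd_trans ?_ hx⟩
    rw [hom3, hop1]
    exact lcm_half g4 (hev 3)
  · obtain ⟨x, hx⟩ := full Pm1 hPm1 hty1 (by norm_num) tm1 tp3 hcm1 hcp3
    refine ⟨x, dvd_trans ?_ hx⟩
    rw [hom1, hop3, mul_comm]
    exact lcm_half g5 hev1
  · obtain ⟨x, hx⟩ := aff Pm2 (plusQ 1 F) hPm2 (hP 1) tm2 tp1 hcm2 hcp1
      (by rw [hom2]; exact (hcast' 2 two_ne_zero).1)
      (by rw [hop1, ← pow_one q]; exact (hcast' 1 one_ne_zero).2) 0 (by simp)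
    refine ⟨x, dvd_trans ?_ hx⟩
    rw [hom2, hop1, mul_comm p, pow_one]
    exact Nat.mul_dvd_mul_right (lcm_half g2 (hev 2)) p
  · obtain ⟨x, hx⟩ := aff Pm2 Pm1 hPm2 hPm1 tm2 tm1 hcm2 hcm1
      (by rw [hom2]; exact (hcast' 2 two_ne_zero).1)
      (by rw [hom1, ← pow_one q]; exact (hcast' 1 one_ne_zero).1) 0 (by simp)
    refine ⟨x, dvd_trans ?_ hx⟩
    rw [hom2, hom1, mul_comm p, pow_one]
    exact Nat.mul_dvd_mul_right (lcm_half g3 (hev 2)) p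
  · obtain ⟨x, hx⟩ := aff (plusQ 2 F) (plusQ 1 F) (hP 2) (hP 1) tp2 tp1 hcp2 hcp1
      (by rw [hop2]; exact (hcast' 2 two_ne_zero).2)
      (by rw [hop1, ← pow_one q]; exact (hcast' 1 one_ne_zero).2) 0 (by simp)
    refine ⟨x, dvd_trans ?_ hx⟩
    rw [hop2, mul_comm p, pow_one]
    exact Nat.mul_dvd_mul_right (Nat.dvd_lcm_left _ _) p
  · obtain ⟨x, hx⟩ := aff Pm1 (plusQ 1 F) hPm1 (hP 1) tm1 tp1 hcm1 hcp1
      (by rw [hom1, ← pow_one q]; exact (hcast' 1 one_ne_zero).1)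
      (by rw [hop1, ← pow_one q]; exact (hcast' 1 one_ne_zero).2) 1 (by simp [hp3])
    refine ⟨x, dvd_trans ?_ hx⟩
    rw [hom1, hop1, hp3, show (3 : ℕ) ^ (1 + 1) = 9 from rfl, mul_comm 9]
    refine Nat.mul_dvd_mul_right (dvd_trans (dvd_of_eq ?_) (lcm_half g6 hev1)) 9
    congr 1
    rw [← Nat.sq_sub_sq, one_pow]
  · -- a square of a torus of even order
    have fin : ∀ {κ : Type} [Fintype κ] [DecidableEq κ] (R : QuadraticForm F (κ → F)),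
        R.polarBilin.Nondegenerate → Fintype.card κ ≤ 2 → ∀ (t : O R) (i : ℕ), orderOf t = 4 * i →
        ((4 * i : ℕ) : F) ≠ 0 →
        ∃ x : Multiplicative (ι → F) ⋊[φ] commutator (O Q), 50 ∣ orderOf x := by
      intro κ _ _ R hR hκ t i hn hn0
      have ho2 : orderOf (t ^ 2) = 2 * i := by
        rw [orderOf_pow' _ two_ne_zero, hn,
          Nat.gcd_eq_right (show 2 ∣ 4 * i from Dvd.dvd.mul_right (by norm_num) i)]
        omega
      have hi0 : ((2 * i : ℕ) : F) ≠ 0 := by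
        intro h
        exact hn0 (by rw [show 4 * i = 2 * (2 * i) by ring, Nat.cast_mul, h, mul_zero])
      obtain ⟨x, hx⟩ := exists_affine hφ hQ h2 hδ h8 R hR (t ^ 2)
        (by rw [map_pow]; exact (by decide : ∀ u : ℤˣ × ℤˣ, u ^ 2 = 1) _) (M := 2 * i) (f := 1) hi0
        (ho2 ▸ dvd_rfl) (ho2 ▸ dvd_mul_right _ _) (by rw [hp5]; omega)
      refine ⟨x, dvd_trans ?_ hx⟩
      rw [hp5]
      exact ⟨i, by ring⟩
    rcases (show 4 ∣ q + 1 ∨ 4 ∣ q - 1 by obtain ⟨i, hi⟩ := hqo; omega) with ⟨i, h⟩ | ⟨i, h⟩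
    · exact fin Pm1 hPm1 (by simp) tm1 i (hom1.trans h)
        (by rw [← h, ← pow_one q]; exact (hcast' 1 one_ne_zero).1)
    · exact fin (plusQ 1 F) (hP 1) (by simp) tp1 i (hop1.trans h)
        (by rw [← h, ← pow_one q]; exact (hcast' 1 one_ne_zero).2)

include hφ in
/-- The two sets of orders are equal. -/
theorem range_orderOf_eq (hQ : Q.polarBilin.Nondegenerate) (h2 : (2 : F) ≠ 0)
    (h8 : Fintype.card ι = 8) (hns : ¬ IsSquare (CfsgLib.QuadFin.gram ⇑Q).det)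
    {ι' : Type} [Fintype ι'] [DecidableEq ι'] {Q' : QuadraticForm F (ι' → F)}
    (hQ' : Q'.polarBilin.Nondegenerate) (h9 : Fintype.card ι' = 9) :
    Set.range (orderOf : commutator (O Q') → ℕ) =
      Set.range (orderOf : Multiplicative (ι → F) ⋊[φ] commutator (O Q) → ℕ) := by
  obtain ⟨p, hpc⟩ := CharP.exists F
  have hp : Fact p.Prime := ⟨CharP.char_is_prime F p⟩
  obtain ⟨δ, hδ⟩ : ∃ δ : F, ¬ IsSquare δ := ⟨_, hns⟩
  have : Finite (Multiplicative (ι → F) ⋊[φ] commutator (O Q)) :=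
    Finite.of_equiv _ SemidirectProduct.equivProd.symm
  have hdiv : ∀ {G : Type _} [Group G] [Finite G] (x : G) (n : ℕ), n ∣ orderOf x →
      n ∈ Set.range (orderOf : G → ℕ) := fun x n hn =>
    ⟨x ^ (orderOf x / n), orderOf_pow_orderOf_div (orderOf_pos x).ne' hn⟩
  ext n
  constructor
  · rintro ⟨g, rfl⟩
    obtain ⟨x, hx⟩ := nine_le_affine hφ hQ hQ' h2 hδ h8 h9 hns
      (fun Qa hQa hsq a N ha hfree => by
        obtain ⟨m, hm, hma⟩ := exists_target (p := p) h2 hδ Qa hQa hsq a ha hfree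
        obtain ⟨x, hx⟩ := exists_of_target hφ hQ h2 h8 hns hδ hm
        exact ⟨x, hma.trans hx⟩) (g : O Q') (chiPair_coe hQ' h2 hδ g)
    exact hdiv x _ (by rw [← Subgroup.orderOf_coe g]; exact hx)
  · rintro ⟨x, rfl⟩
    obtain ⟨y, hy, hxy⟩ := affine_le_nine hφ hQ hQ' h2 hδ h8 h9 x
    exact hdiv (⟨y, mem_omega hQ' h2 hδ hy⟩ : commutator (O Q')) _
      (by rw [← Subgroup.orderOf_coe ⟨y, mem_omega hQ' h2 hδ hy⟩]; exact hxy)

end CfsgLib.Recog.OmegaNine
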